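import Mathlib
set_option linter.all false

/-!
Groups with a self-centralising four-subgroup `U` containing the centralisers of its involutions:
if `|N(U)| = 12` then the group has order 12 or 60 (elementary counting proof).
-/

set_option autoImplicit false

namespace Cfsg.Agent.J2Type.FourSelfCent

open Subgroup
open scoped Pointwise

variable {K : Type*} [Group K]

/-- The hypothesis: `U` has order 4, exponent 2, and is the centraliser of each of its non-trivial elements. -/
structure Hyp (U : Subgroup K) : Prop where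
  card4 : Nat.card U = 4
  sq : ∀ u ∈ U, u * u = 1
  cent : ∀ u ∈ U, u ≠ 1 → ∀ x : K, x * u = u * x → x ∈ U

namespace Hyp

variable {U : Subgroup K} (h : Hyp U)
include h

theorem comm {u v : K} (hu : u ∈ U) (hv : v ∈ U) : u * v = v * u := by
  have h1 := h.sq _ (U.mul_mem hu hv)
  have h2 := h.sq _ hu
  have h3 := h.sq _ hv
  have : u * v = (u * v)⁻¹ := eq_inv_of_mul_eq_one_left h1
  rw [this, mul_inv_rev, ← eq_inv_of_mul_eq_one_left h2, ← eq_inv_of_mul_eq_one_left h3]

/-- TI property. -/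
theorem ti {u g : K} (hu : u ∈ U) (hu1 : u ≠ 1) (hg : g⁻¹ * u * g ∈ U) :
    g ∈ normalizer (U : Set K) := by
  -- centraliser of u is U and g U g⁻¹
  have key : ∀ x : K, x ∈ U ↔ g⁻¹ * x * g ∈ U := by
    intro x
    constructor
    · intro hx
      apply h.cent _ hg
      · intro h0
        apply hu1
        have : u = g * (g⁻¹ * u * g) * g⁻¹ := by group
        rw [this, h0]; group
      · have := h.comm hx hu
        calc g⁻¹ * x * g * (g⁻¹ * u * g) = g⁻¹ * (x * u) * g := by group
          _ = g⁻¹ * (u * x) * g := by rw [this]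
          _ = g⁻¹ * u * g * (g⁻¹ * x * g) := by group
    · intro hx
      apply h.cent u hu hu1
      have := h.comm hx hg
      calc x * u = g * ((g⁻¹ * x * g) * (g⁻¹ * u * g)) * g⁻¹ := by group
        _ = g * ((g⁻¹ * u * g) * (g⁻¹ * x * g)) * g⁻¹ := by rw [this]
        _ = u * x := by group
  have : g⁻¹ ∈ normalizer (U : Set K) := by
    rw [mem_normalizer_iff]
    intro x
    simpa using key x
  simpa using (normalizer (U : Set K)).inv_mem this

/-- An involution normalising `U` lies in `U`. -/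
theorem mem_of_sq_of_mem_normalizer {s : K} (hs : s * s = 1)
    (hN : s ∈ normalizer (U : Set K)) : s ∈ U := by
  by_contra hsU
  have hsinv : s⁻¹ = s := (eq_inv_of_mul_eq_one_left hs).symm
  -- pick `u ≠ 1` in `U`
  have hne : ∃ u ∈ U, u ≠ 1 := by
    by_contra hcon
    push Not at hcon
    have : U = ⊥ := by
      rw [eq_bot_iff]; intro x hx; simpa using hcon x hx
    have h4 := h.card4
    rw [this] at h4
    simp at h4
  obtain ⟨u, hu, hu1⟩ := hne
  have hv : s * u * s⁻¹ ∈ U := (mem_normalizer_iff.mp hN u).mp hu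
  by_cases hvu : s * u * s⁻¹ = u
  · apply hsU
    apply h.cent u hu hu1
    calc s * u = s * u * s⁻¹ * s := by group
      _ = u * s := by rw [hvu]
  · have hw : u * (s * u * s⁻¹) ∈ U := U.mul_mem hu hv
    have hw1 : u * (s * u * s⁻¹) ≠ 1 := by
      intro h0
      apply hvu
      have h1 := h.sq u hu
      exact mul_left_cancel (h0.trans h1.symm)
    apply hsU
    apply h.cent _ hw hw1
    have hc := h.comm hu hv
    calc s * (u * (s * u * s⁻¹)) = (s * u * s⁻¹) * (s * s) * u * s⁻¹ := by group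
      _ = (s * u * s⁻¹) * u * s := by rw [hs, hsinv]; group
      _ = u * (s * u * s⁻¹) * s := by rw [hc]

/-- In a finite group every involution is conjugate into `U`. -/
theorem exists_conj_mem [Finite K] {s : K} (hs : s * s = 1) : ∃ g : K, g⁻¹ * s * g ∈ U := by
  haveI : Fact (Nat.Prime 2) := ⟨Nat.prime_two⟩
  have hU2 : IsPGroup 2 U := by
    apply IsPGroup.of_card (n := 2)
    rw [h.card4]; norm_num
  obtain ⟨P, hP⟩ := hU2.exists_le_sylow
  -- P = U
  have hne : ∃ u ∈ U, u ≠ 1 := by
    by_contra hcon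
    push Not at hcon
    have : U = ⊥ := by
      rw [eq_bot_iff]; intro x hx; simpa using hcon x hx
    have h4 := h.card4
    rw [this] at h4
    simp at h4
  obtain ⟨u, hu, hu1⟩ := hne
  haveI : Nontrivial (P : Subgroup K) := ⟨⟨⟨u, hP hu⟩, 1, fun hh => hu1 (congrArg Subtype.val hh)⟩⟩
  have hZ := P.isPGroup'.center_nontrivial
  obtain ⟨c, hc1⟩ := exists_ne (1 : Subgroup.center (P : Subgroup K))
  have hcc : ∀ x ∈ P, x * ((c : (P : Subgroup K)) : K) = ((c : (P : Subgroup K)) : K) * x := by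
    intro x hx
    have := Subgroup.mem_center_iff.mp c.2 ⟨x, hx⟩
    exact congrArg Subtype.val this
  have hcU : ((c : (P : Subgroup K)) : K) ∈ U := by
    apply h.cent u hu hu1
    exact (hcc u (hP hu)).symm
  have hPU : (P : Subgroup K) ≤ U := by
    intro x hx
    apply h.cent _ hcU _ x (hcc x hx)
    intro h0
    apply hc1
    ext
    simpa using h0
  have hz : IsPGroup 2 (zpowers s) := by
    have : s ^ 2 = 1 := by rw [pow_two]; exact hs
    rw [IsPGroup.iff_card] 
    have hd : Nat.card (zpowers s) ∣ 2 := by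
      rw [Nat.card_zpowers]; exact orderOf_dvd_of_pow_eq_one this
    rcases (Nat.dvd_prime Nat.prime_two).mp hd with h1 | h1
    · exact ⟨0, by simpa using h1⟩
    · exact ⟨1, by simpa using h1⟩
  obtain ⟨Q, hQ⟩ := hz.exists_le_sylow
  obtain ⟨g, hg⟩ := MulAction.exists_smul_eq K P Q
  refine ⟨g, hPU ?_⟩
  have hsQ : s ∈ (Q : Subgroup K) := hQ (mem_zpowers s)
  rw [← hg] at hsQ
  have : s ∈ MulAut.conj g • (P : Subgroup K) := hsQ
  rw [Subgroup.mem_pointwise_smul_iff_inv_smul_mem] at this
  simpa [MulAut.smul_def, ← map_inv] using this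

theorem exists_ne_one : ∃ u ∈ U, u ≠ 1 := by
  by_contra hcon
  push Not at hcon
  have : U = ⊥ := by
    rw [eq_bot_iff]; intro x hx; simpa using hcon x hx
  have h4 := h.card4
  rw [this] at h4
  simp at h4

theorem card_ne_one : Nat.card {u : K // u ∈ U ∧ u ≠ 1} = 3 := by
  have h4 : (U : Set K).ncard = 4 := h.card4
  have : ((U : Set K) \ {1}).ncard = 3 := by
    have hf : (U : Set K).Finite := Set.finite_of_ncard_ne_zero (by rw [h4]; norm_num)
    rw [Set.ncard_diff_singleton_of_mem (by exact U.one_mem), h4]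
  exact this

/-- For an involution `s` outside `N(U)`, an involution of `N ∩ N^s` cannot exist. -/
theorem eq_one_of_sq {s v : K} (hs : s * s = 1) (hsN : s ∉ normalizer (U : Set K))
    (hv : v * v = 1) (hvN : v ∈ normalizer (U : Set K))
    (hsv : s * v * s⁻¹ ∈ normalizer (U : Set K)) : v = 1 := by
  by_contra hv1
  have hsinv : s⁻¹ = s := (eq_inv_of_mul_eq_one_left hs).symm
  have h1 : v ∈ U := h.mem_of_sq_of_mem_normalizer hv hvN
  have h2 : s * v * s⁻¹ ∈ U := by
    apply h.mem_of_sq_of_mem_normalizer _ hsv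
    calc s * v * s⁻¹ * (s * v * s⁻¹) = s * (v * v) * s⁻¹ := by group
      _ = 1 := by rw [hv]; group
  apply hsN
  apply h.ti h1 hv1
  rw [hsinv] at h2 ⊢
  exact h2

/-- The subgroup `N ∩ N^s`. -/
def B (U : Subgroup K) (s : K) : Subgroup K :=
  normalizer (U : Set K) ⊓ (normalizer (U : Set K)).comap (MulAut.conj s).toMonoidHom

omit h in
theorem mem_B {s y : K} : y ∈ B U s ↔ y ∈ normalizer (U : Set K) ∧
    s * y * s⁻¹ ∈ normalizer (U : Set K) := by
  simp [B, Subgroup.mem_inf, Subgroup.mem_comap]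

theorem inf_B_eq_bot {s : K} (hs : s * s = 1) (hsN : s ∉ normalizer (U : Set K)) {u : K}
    (hu : u ∈ U) (huB : u ∈ B U s) : u = 1 :=
  h.eq_one_of_sq hs hsN (h.sq u hu) (mem_B.mp huB).1 (mem_B.mp huB).2

section Fin
variable [Finite K]

theorem card_B_mul_dvd {s : K} (hs : s * s = 1) (hsN : s ∉ normalizer (U : Set K)) :
    Nat.card (B U s) * 4 ∣ Nat.card (normalizer (U : Set K)) := by
  have hle : B U s ≤ normalizer (U : Set K) := inf_le_left
  have hUle : U ≤ normalizer (U : Set K) := le_normalizer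
  have h1 : Nat.card (B U s) ∣ Nat.card (normalizer (U : Set K)) := card_dvd_of_le hle
  have h2 : Nat.card U ∣ Nat.card (normalizer (U : Set K)) := card_dvd_of_le hUle
  rw [h.card4] at h2
  apply Nat.Coprime.mul_dvd_of_dvd_of_dvd _ h1 h2
  have : Nat.Coprime (Nat.card (B U s)) 2 := by
    rw [Nat.coprime_comm, Nat.Prime.coprime_iff_not_dvd Nat.prime_two]
    intro hd
    obtain ⟨⟨v, hv⟩, hv2⟩ := exists_prime_orderOf_dvd_card' (G := B U s) 2 hd
    have hv1 : v ≠ 1 := by
      rintro rfl
      have : (⟨1, hv⟩ : B U s) = 1 := rfl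
      rw [this] at hv2
      simp at hv2
    apply hv1
    apply h.eq_one_of_sq hs hsN _ (mem_B.mp hv).1 (mem_B.mp hv).2
    have := pow_orderOf_eq_one (⟨v, hv⟩ : B U s)
    rw [hv2, pow_two] at this
    exact congrArg Subtype.val this
  have h4 : (4 : ℕ) = 2 ^ 2 := by norm_num
  rw [h4]
  exact Nat.Coprime.pow_right 2 this

/-- The number of involutions is three times the index of `N`. -/
theorem card_involutions :
    Nat.card {s : K // s ≠ 1 ∧ s * s = 1} = 3 * Nat.card (K ⧸ normalizer (U : Set K)) := by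
  set N := normalizer (U : Set K) with hNdef
  let φ : (K ⧸ N) × {u : K // u ∈ U ∧ u ≠ 1} → {s : K // s ≠ 1 ∧ s * s = 1} := fun p =>
    ⟨p.1.out * p.2.1 * (p.1.out)⁻¹, by
      constructor
      · intro h0
        apply p.2.2.2
        calc (p.2.1 : K) = (p.1.out)⁻¹ * (p.1.out * p.2.1 * (p.1.out)⁻¹) * p.1.out := by group
          _ = 1 := by rw [h0]; group
      · calc p.1.out * p.2.1 * (p.1.out)⁻¹ * (p.1.out * p.2.1 * (p.1.out)⁻¹)
            = p.1.out * (p.2.1 * p.2.1) * (p.1.out)⁻¹ := by group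
          _ = 1 := by rw [h.sq _ p.2.2.1]; group⟩
  have hφ : Function.Bijective φ := by
    constructor
    · rintro ⟨c, u, hu, hu1⟩ ⟨c', u', hu', hu1'⟩ heq
      have heq' : c.out * u * (c.out)⁻¹ = c'.out * u' * (c'.out)⁻¹ := congrArg Subtype.val heq
      have hmem : (c.out)⁻¹ * c'.out ∈ N := by
        apply h.ti hu hu1
        have : ((c.out)⁻¹ * c'.out)⁻¹ * u * ((c.out)⁻¹ * c'.out) = u' := by
          calc ((c.out)⁻¹ * c'.out)⁻¹ * u * ((c.out)⁻¹ * c'.out)
              = (c'.out)⁻¹ * (c.out * u * (c.out)⁻¹) * c'.out := by group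
            _ = u' := by rw [heq']; group
        rw [this]; exact hu'
      have hcc : c = c' := by
        have := QuotientGroup.eq.mpr hmem
        simpa using this
      subst hcc
      have : u = u' := by
        have := mul_left_cancel (mul_right_cancel heq')
        exact this
      subst this
      rfl
    · rintro ⟨s, hs1, hs⟩
      obtain ⟨g, hg⟩ := h.exists_conj_mem hs
      set c : K ⧸ N := (g : K ⧸ N) with hc
      have hmem : g⁻¹ * c.out ∈ N := by
        rw [← QuotientGroup.eq]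
        simp [hc]
      have hu : (c.out)⁻¹ * s * c.out ∈ U := by
        have h2 := (mem_normalizer_iff'.mp (N.inv_mem hmem)) (g⁻¹ * s * g * (g⁻¹ * c.out))
        have h3 : (g⁻¹ * c.out)⁻¹ * (g⁻¹ * s * g * (g⁻¹ * c.out)) = (c.out)⁻¹ * s * c.out := by
          group
        have h4 : (g⁻¹ * s * g * (g⁻¹ * c.out)) * (g⁻¹ * c.out)⁻¹ = g⁻¹ * s * g := by group
        rw [h3, h4] at h2
        exact h2.mp hg
      refine ⟨⟨c, ⟨(c.out)⁻¹ * s * c.out, hu, ?_⟩⟩, ?_⟩
      · intro h0
        apply hs1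
        calc s = c.out * ((c.out)⁻¹ * s * c.out) * (c.out)⁻¹ := by group
          _ = 1 := by rw [h0]; group
      · ext
        change c.out * ((c.out)⁻¹ * s * c.out) * (c.out)⁻¹ = s
        group
  rw [← Nat.card_congr (Equiv.ofBijective φ hφ), Nat.card_prod, h.card_ne_one, mul_comm]

/-- involutions in a given coset of `N` -/
def A (U : Subgroup K) (c : K ⧸ normalizer (U : Set K)) : Type _ :=
  {s : K // (s ≠ 1 ∧ s * s = 1) ∧ (s : K ⧸ normalizer (U : Set K)) = c}

instance instFiniteA (U : Subgroup K) (c : K ⧸ normalizer (U : Set K)) : Finite (A U c) :=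
  inferInstanceAs (Finite {s : K // (s ≠ 1 ∧ s * s = 1) ∧ (s : K ⧸ normalizer (U : Set K)) = c})

theorem card_A_base : Nat.card (A U ((1 : K) : K ⧸ normalizer (U : Set K))) = 3 := by
  rw [← h.card_ne_one]
  apply Nat.card_congr
  refine Equiv.subtypeEquivRight ?_
  intro s
  constructor
  · rintro ⟨⟨h1, h2⟩, h3⟩
    refine ⟨h.mem_of_sq_of_mem_normalizer h2 ?_, h1⟩
    have := QuotientGroup.eq.mp h3
    simpa using this
  · rintro ⟨h1, h2⟩
    refine ⟨⟨h2, h.sq s h1⟩, ?_⟩
    rw [QuotientGroup.eq]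
    simpa using le_normalizer (H := U) h1

/-- translation map from involutions in a coset to `B` -/
theorem A_to_B {c : K ⧸ normalizer (U : Set K)} (a b : A U c) : a.1 * b.1 ∈ B U a.1 := by
  have ha := a.2.1.2
  have hb := b.2.1.2
  have hainv : a.1⁻¹ = a.1 := (eq_inv_of_mul_eq_one_left ha).symm
  have hbinv : b.1⁻¹ = b.1 := (eq_inv_of_mul_eq_one_left hb).symm
  have h1 : a.1⁻¹ * b.1 ∈ normalizer (U : Set K) := by
    rw [← QuotientGroup.eq, a.2.2, b.2.2]
  rw [hainv] at h1
  rw [mem_B]
  refine ⟨h1, ?_⟩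
  have : a.1 * (a.1 * b.1) * a.1⁻¹ = (a.1 * b.1)⁻¹ := by
    rw [mul_inv_rev, hbinv, ← mul_assoc, ha, one_mul]
  rw [this]
  exact (normalizer (U : Set K)).inv_mem h1

theorem card_A_le {c : K ⧸ normalizer (U : Set K)} (a : A U c) :
    Nat.card (A U c) ≤ Nat.card (B U a.1) := by
  apply Nat.card_le_card_of_injective (fun b : A U c => (⟨a.1 * b.1, h.A_to_B a b⟩ : B U a.1))
  intro b b' hbb
  have := congrArg Subtype.val hbb
  exact Subtype.ext (mul_left_cancel this)

theorem notMem_of_ne {c : K ⧸ normalizer (U : Set K)}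
    (hc : c ≠ ((1 : K) : K ⧸ normalizer (U : Set K))) (a : A U c) :
    a.1 ∉ normalizer (U : Set K) := by
  intro hmem
  apply hc
  rw [← a.2.2, QuotientGroup.eq]
  simpa using hmem

theorem sum_card_A : ∑ᶠ c, Nat.card (A U c) = 3 * Nat.card (K ⧸ normalizer (U : Set K)) := by
  rw [← h.card_involutions]
  classical
  haveI := Fintype.ofFinite (K ⧸ normalizer (U : Set K))
  rw [finsum_eq_sum_of_fintype, ← Nat.card_sigma]
  apply Nat.card_congr
  refine ⟨fun p => ⟨p.2.1, p.2.2.1⟩, fun s => ⟨(s.1 : K ⧸ normalizer (U : Set K)), ⟨s.1, s.2, rfl⟩⟩,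
    ?_, fun s => rfl⟩
  rintro ⟨c, s, hs, rfl⟩
  rfl

/-- If every coset other than the base contains at most `b` involutions, then
`3 k ≤ 3 + b (k - 1)`. -/
theorem key_le (b : ℕ) (hb : ∀ c : K ⧸ normalizer (U : Set K),
    c ≠ ((1 : K) : K ⧸ normalizer (U : Set K)) → Nat.card (A U c) ≤ b) :
    3 * Nat.card (K ⧸ normalizer (U : Set K)) ≤
      3 + b * (Nat.card (K ⧸ normalizer (U : Set K)) - 1) := by
  classical
  haveI := Fintype.ofFinite (K ⧸ normalizer (U : Set K))
  have h1 := h.sum_card_A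
  rw [finsum_eq_sum_of_fintype,
    ← Finset.add_sum_erase _ _ (Finset.mem_univ ((1 : K) : K ⧸ normalizer (U : Set K))),
    h.card_A_base] at h1
  have h2 : ∑ c ∈ Finset.univ.erase ((1 : K) : K ⧸ normalizer (U : Set K)), Nat.card (A U c) ≤
      (Finset.univ.erase ((1 : K) : K ⧸ normalizer (U : Set K))).card * b := by
    rw [← smul_eq_mul]
    apply Finset.sum_le_card_nsmul
    intro c hc
    exact hb c (Finset.ne_of_mem_erase hc)
  rw [Finset.card_erase_of_mem (Finset.mem_univ _), Finset.card_univ, ← Nat.card_eq_fintype_card,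
    mul_comm] at h2
  omega

/-- If every coset other than the base contains at most 3 involutions, then each contains
exactly three. -/
theorem card_A_eq (hb : ∀ c : K ⧸ normalizer (U : Set K),
    c ≠ ((1 : K) : K ⧸ normalizer (U : Set K)) → Nat.card (A U c) ≤ 3)
    (c : K ⧸ normalizer (U : Set K)) : Nat.card (A U c) = 3 := by
  classical
  haveI := Fintype.ofFinite (K ⧸ normalizer (U : Set K))
  have hb' : ∀ c ∈ (Finset.univ : Finset (K ⧸ normalizer (U : Set K))), Nat.card (A U c) ≤ 3 := by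
    intro c _
    by_cases hc : c = ((1 : K) : K ⧸ normalizer (U : Set K))
    · rw [hc, h.card_A_base]
    · exact hb c hc
  have h1 := h.sum_card_A
  rw [finsum_eq_sum_of_fintype] at h1
  have h2 : ∑ c : K ⧸ normalizer (U : Set K), Nat.card (A U c) =
      ∑ c : K ⧸ normalizer (U : Set K), 3 := by
    rw [h1, Finset.sum_const, Finset.card_univ, ← Nat.card_eq_fintype_card, smul_eq_mul, mul_comm]
  exact (Finset.sum_eq_sum_iff_of_le hb').mp h2 c (Finset.mem_univ c)

theorem card_normalizer :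
    Nat.card (normalizer (U : Set K)) = 4 ∨ Nat.card (normalizer (U : Set K)) = 12 := by
  obtain ⟨u0, hu0, hu01⟩ := h.exists_ne_one
  set N := normalizer (U : Set K) with hNdef
  set U' : Subgroup N := U.subgroupOf N with hU'
  have hUle : U ≤ N := le_normalizer
  have hcU' : Nat.card U' = 4 := by
    rw [← h.card4]
    exact Nat.card_congr (subgroupOfEquivOfLe hUle).toEquiv
  -- injection of the quotient
  let ψ : N ⧸ U' → {u : K // u ∈ U ∧ u ≠ 1} := fun q =>
    ⟨(q.out : K) * u0 * (q.out : K)⁻¹, (mem_normalizer_iff.mp q.out.2 u0).mp hu0, by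
      intro h0
      apply hu01
      calc u0 = (q.out : K)⁻¹ * ((q.out : K) * u0 * (q.out : K)⁻¹) * (q.out : K) := by group
        _ = 1 := by rw [h0]; group⟩
  have hψ : Function.Injective ψ := by
    intro q q' hqq
    have h1 : (q.out : K) * u0 * (q.out : K)⁻¹ = (q'.out : K) * u0 * (q'.out : K)⁻¹ :=
      congrArg Subtype.val hqq
    have h2 : (q.out : K)⁻¹ * (q'.out : K) ∈ U := by
      apply h.cent u0 hu0 hu01
      calc (q.out : K)⁻¹ * (q'.out : K) * u0
          = (q.out : K)⁻¹ * ((q'.out : K) * u0 * (q'.out : K)⁻¹) * q'.out := by group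
        _ = (q.out : K)⁻¹ * ((q.out : K) * u0 * (q.out : K)⁻¹) * q'.out := by rw [h1]
        _ = u0 * ((q.out : K)⁻¹ * (q'.out : K)) := by group
    have h3 : (q.out)⁻¹ * q'.out ∈ U' := mem_subgroupOf.mpr h2
    have := QuotientGroup.eq.mpr h3
    simpa using this
  have hle := Nat.card_le_card_of_injective ψ hψ
  rw [h.card_ne_one] at hle
  have hmul := card_eq_card_quotient_mul_card_subgroup U'
  rw [hcU'] at hmul
  have hpos : 0 < Nat.card (N ⧸ U') := Nat.card_pos
  have hne2 : Nat.card (N ⧸ U') ≠ 2 := by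
    intro h2
    haveI hnorm : U'.Normal := normal_in_normalizer
    have hex : ∃ y : N, y ∉ U' := by
      by_contra hcon
      push Not at hcon
      have : U' = ⊤ := by
        rw [eq_top_iff]; intro x _; exact hcon x
      have h3 : U'.index = 1 := by rw [this]; simp
      have h4 : U'.index = 2 := h2
      omega
    obtain ⟨y, hy⟩ := hex
    have hy2 : y ^ U'.index ∈ U' := pow_index_mem U' y
    have h4 : U'.index = 2 := h2
    rw [h4, pow_two, hU', mem_subgroupOf] at hy2
    have hyU : (y : K) ∉ U := by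
      intro h0; apply hy; rw [hU', mem_subgroupOf]; exact h0
    have hyy : (y : K) * (y : K) ∈ U := by simpa using hy2
    have hv : (y : K) * u0 * (y : K)⁻¹ ∈ U := (mem_normalizer_iff.mp y.2 u0).mp hu0
    by_cases hvu : (y : K) * u0 * (y : K)⁻¹ = u0
    · apply hyU
      apply h.cent u0 hu0 hu01
      calc (y : K) * u0 = (y : K) * u0 * (y : K)⁻¹ * y := by group
        _ = u0 * y := by rw [hvu]
    · have hw : u0 * ((y : K) * u0 * (y : K)⁻¹) ∈ U := U.mul_mem hu0 hv
      have hw1 : u0 * ((y : K) * u0 * (y : K)⁻¹) ≠ 1 := by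
        intro h0
        apply hvu
        exact mul_left_cancel (h0.trans (h.sq u0 hu0).symm)
      apply hyU
      apply h.cent _ hw hw1
      have hc := h.comm hu0 hv
      have hc2 := h.comm hyy hu0
      calc (y : K) * (u0 * ((y : K) * u0 * (y : K)⁻¹))
          = ((y : K) * u0 * (y : K)⁻¹) * ((y : K) * y * u0) * (y : K)⁻¹ := by group
        _ = ((y : K) * u0 * (y : K)⁻¹) * (u0 * (y * y)) * (y : K)⁻¹ := by rw [hc2]
        _ = ((y : K) * u0 * (y : K)⁻¹) * u0 * y := by group
        _ = u0 * ((y : K) * u0 * (y : K)⁻¹) * y := by rw [hc]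
  have hcases : Nat.card (N ⧸ U') = 1 ∨ Nat.card (N ⧸ U') = 3 := by omega
  rcases hcases with h1 | h1
  · left; rw [hmul, h1]
  · right; rw [hmul, h1]

theorem card_eq_four (hN : Nat.card (normalizer (U : Set K)) = 4) : Nat.card K = 4 := by
  have hb : ∀ c : K ⧸ normalizer (U : Set K),
      c ≠ ((1 : K) : K ⧸ normalizer (U : Set K)) → Nat.card (A U c) ≤ 1 := by
    intro c hc
    rcases isEmpty_or_nonempty (A U c) with he | ⟨⟨a⟩⟩
    · rw [Nat.card_of_isEmpty]; norm_num
    · refine (h.card_A_le a).trans ?_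
      have := h.card_B_mul_dvd a.2.1.2 (h.notMem_of_ne hc a)
      rw [hN] at this
      have := Nat.le_of_dvd (by norm_num) this
      omega
  have h1 := h.key_le 1 hb
  have hmul := card_eq_card_quotient_mul_card_subgroup (normalizer (U : Set K))
  have hpos : 0 < Nat.card (K ⧸ normalizer (U : Set K)) := Nat.card_pos
  rw [hmul, hN]
  omega

section Twelve

variable (hN : Nat.card (normalizer (U : Set K)) = 12)
include hN

theorem card_B_le {c : K ⧸ normalizer (U : Set K)}
    (hc : c ≠ ((1 : K) : K ⧸ normalizer (U : Set K))) (a : A U c) : Nat.card (B U a.1) ≤ 3 := by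
  have := h.card_B_mul_dvd a.2.1.2 (h.notMem_of_ne hc a)
  rw [hN] at this
  have := Nat.le_of_dvd (by norm_num) this
  omega

theorem card_A_three (c : K ⧸ normalizer (U : Set K)) : Nat.card (A U c) = 3 := by
  apply h.card_A_eq
  intro c hc
  rcases isEmpty_or_nonempty (A U c) with he | ⟨⟨a⟩⟩
  · rw [Nat.card_of_isEmpty]; norm_num
  · exact (h.card_A_le a).trans (h.card_B_le hN hc a)

theorem card_B_three {c : K ⧸ normalizer (U : Set K)}
    (hc : c ≠ ((1 : K) : K ⧸ normalizer (U : Set K))) (a : A U c) : Nat.card (B U a.1) = 3 := by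
  apply le_antisymm (h.card_B_le hN hc a)
  rw [← h.card_A_three hN c]
  exact h.card_A_le a

theorem inverts {c : K ⧸ normalizer (U : Set K)}
    (hc : c ≠ ((1 : K) : K ⧸ normalizer (U : Set K))) (a : A U c) {y : K} (hy : y ∈ B U a.1) :
    a.1 * y * a.1⁻¹ = y⁻¹ := by
  have hinj : Function.Injective (fun b : A U c => (⟨a.1 * b.1, h.A_to_B a b⟩ : B U a.1)) := by
    intro b b' hbb
    have := congrArg Subtype.val hbb
    exact Subtype.ext (mul_left_cancel this)
  have hbij : Function.Bijective (fun b : A U c => (⟨a.1 * b.1, h.A_to_B a b⟩ : B U a.1)) := by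
    rw [Nat.bijective_iff_injective_and_card]
    refine ⟨hinj, ?_⟩
    rw [h.card_A_three hN c, h.card_B_three hN hc a]
  obtain ⟨b, hb⟩ := hbij.2 ⟨y, hy⟩
  have hab : a.1 * b.1 = y := congrArg Subtype.val hb
  have ha := a.2.1.2
  have hb2 := b.2.1.2
  have hainv : a.1⁻¹ = a.1 := (eq_inv_of_mul_eq_one_left ha).symm
  have hbinv : b.1⁻¹ = b.1 := (eq_inv_of_mul_eq_one_left hb2).symm
  rw [← hab, mul_inv_rev, hbinv, ← mul_assoc, ha, one_mul]

theorem pow_three {y : K} (hy : y ∈ normalizer (U : Set K)) (hyU : y ∉ U) : y ^ 3 = 1 := by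
  set N := normalizer (U : Set K) with hNdef
  set U' : Subgroup N := U.subgroupOf N with hU'
  have hUle : U ≤ N := le_normalizer
  have hcU' : Nat.card U' = 4 := by
    rw [← h.card4]
    exact Nat.card_congr (subgroupOfEquivOfLe hUle).toEquiv
  haveI hnorm : U'.Normal := normal_in_normalizer
  have hidx : U'.index = 3 := by
    have := card_mul_index U'
    rw [hcU', hN] at this
    omega
  have h3 := pow_index_mem U' (⟨y, hy⟩ : N)
  rw [hidx, hU', mem_subgroupOf] at h3
  have h3' : y ^ 3 ∈ U := by simpa using h3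
  by_contra h1
  apply hyU
  apply h.cent _ h3' h1
  rw [← pow_succ, ← pow_succ']

theorem smul_eq_iff {c : K ⧸ normalizer (U : Set K)} (a : A U c) {y : K}
    (hy : y ∈ normalizer (U : Set K)) : y • c = c ↔ y ∈ B U a.1 := by
  have ha := a.2.1.2
  have hainv : a.1⁻¹ = a.1 := (eq_inv_of_mul_eq_one_left ha).symm
  rw [mem_B]
  constructor
  · intro h1
    refine ⟨hy, ?_⟩
    rw [← a.2.2] at h1
    change ((y * a.1 : K) : K ⧸ normalizer (U : Set K)) = _ at h1
    rw [eq_comm, QuotientGroup.eq] at h1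
    rw [hainv, ← mul_assoc] at h1
    rw [hainv]; exact h1
  · rintro ⟨-, h1⟩
    rw [← a.2.2]
    change ((y * a.1 : K) : K ⧸ normalizer (U : Set K)) = _
    rw [eq_comm, QuotientGroup.eq, hainv, ← mul_assoc]
    rw [hainv] at h1
    exact h1

omit hN in
theorem smul_base {y : K} : y • ((1 : K) : K ⧸ normalizer (U : Set K)) = ((1 : K) : K ⧸ normalizer (U : Set K)) ↔
    y ∈ normalizer (U : Set K) := by
  change ((y * 1 : K) : K ⧸ normalizer (U : Set K)) = _ ↔ _
  rw [mul_one, eq_comm, QuotientGroup.eq]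
  simp

/-- The stabiliser in `K` of the pair `{y, y⁻¹}`. -/
def M (y : K) : Subgroup K where
  carrier := {g | g * y * g⁻¹ = y ∨ g * y * g⁻¹ = y⁻¹}
  one_mem' := by left; simp
  mul_mem' := by
    rintro a b (ha | ha) (hb | hb)
    · left
      calc a * b * y * (a * b)⁻¹ = a * (b * y * b⁻¹) * a⁻¹ := by group
        _ = y := by rw [hb, ha]
    · right
      calc a * b * y * (a * b)⁻¹ = a * (b * y * b⁻¹) * a⁻¹ := by group
        _ = (a * y * a⁻¹)⁻¹ := by rw [hb]; group
        _ = y⁻¹ := by rw [ha]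
    · right
      calc a * b * y * (a * b)⁻¹ = a * (b * y * b⁻¹) * a⁻¹ := by group
        _ = y⁻¹ := by rw [hb, ha]
    · left
      calc a * b * y * (a * b)⁻¹ = a * (b * y * b⁻¹) * a⁻¹ := by group
        _ = (a * y * a⁻¹)⁻¹ := by rw [hb]; group
        _ = y := by rw [ha, inv_inv]
  inv_mem' := by
    rintro a (ha | ha)
    · left
      calc a⁻¹ * y * a⁻¹⁻¹ = a⁻¹ * (a * y * a⁻¹) * a := by rw [ha]; group
        _ = y := by group
    · right
      calc a⁻¹ * y * a⁻¹⁻¹ = (a⁻¹ * y⁻¹ * a)⁻¹ := by group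
        _ = (a⁻¹ * (a * y * a⁻¹) * a)⁻¹ := by rw [ha]
        _ = y⁻¹ := by group

omit h hN in
theorem mem_M {y g : K} : g ∈ M y ↔ g * y * g⁻¹ = y ∨ g * y * g⁻¹ = y⁻¹ := Iff.rfl

omit hN in
theorem notMem_of_pow_three {y : K} (hy1 : y ≠ 1) (hy3 : y ^ 3 = 1) : y ∉ U := by
  intro hyU
  have := h.sq y hyU
  apply hy1
  calc y = y ^ 3 * (y * y)⁻¹ := by group
    _ = 1 := by rw [hy3, this]; group

theorem card_M_le {y : K} (hy : y ∈ normalizer (U : Set K)) (hyU : y ∉ U) :
    Nat.card (M y) ≤ 3 * Nat.card {c : K ⧸ normalizer (U : Set K) // y • c = c} := by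
  set N := normalizer (U : Set K) with hNdef
  set U' : Subgroup N := U.subgroupOf N with hU'
  have hy3 := h.pow_three hN hy hyU
  have hUle : U ≤ N := le_normalizer
  have hcU' : Nat.card U' = 4 := by
    rw [← h.card4]
    exact Nat.card_congr (subgroupOfEquivOfLe hUle).toEquiv
  have hq3 : Nat.card (N ⧸ U') = 3 := by
    have := card_eq_card_quotient_mul_card_subgroup U'
    rw [hcU', hN] at this
    omega
  set c0 : K ⧸ N := ((1 : K) : K ⧸ N) with hc0
  -- the stabiliser of the base point in `M y`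
  have hstab : Nat.card (MulAction.stabilizer (M y) c0) ≤ 3 := by
    rw [← hq3]
    have hmemN : ∀ g : MulAction.stabilizer (M y) c0, ((g : M y) : K) ∈ N := by
      intro g
      have : ((g : M y) : K) • c0 = c0 := g.2
      exact h.smul_base.mp this
    apply Nat.card_le_card_of_injective
      (fun g : MulAction.stabilizer (M y) c0 => ((⟨((g : M y) : K), hmemN g⟩ : N) : N ⧸ U'))
    intro g g' hgg
    have h1 : ((g : M y) : K)⁻¹ * ((g' : M y) : K) ∈ U := mem_subgroupOf.mp (QuotientGroup.eq.mp hgg)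
    have h2 : ((g : M y) : K)⁻¹ * ((g' : M y) : K) ∈ M y := by
      exact (M y).mul_mem ((M y).inv_mem (g : M y).2) (g' : M y).2
    have h3 : ((g : M y) : K)⁻¹ * ((g' : M y) : K) = 1 := by
      by_contra hne
      set u := ((g : M y) : K)⁻¹ * ((g' : M y) : K) with hu
      rcases mem_M.mp h2 with h4 | h4
      · apply hyU
        apply h.cent u h1 hne
        calc y * u = (u * y * u⁻¹) * u := by rw [h4]
          _ = u * y := by group
      · apply hyU
        have h5 : y * u⁻¹ * y⁻¹ ∈ U := (mem_normalizer_iff.mp hy u⁻¹).mp (U.inv_mem h1)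
        have h6 : u * (y * u⁻¹ * y⁻¹) ∈ U := U.mul_mem h1 h5
        have h7 : u * (y * u⁻¹ * y⁻¹) = y := by
          calc u * (y * u⁻¹ * y⁻¹) = (u * y * u⁻¹) * y⁻¹ := by group
            _ = y⁻¹ * y⁻¹ := by rw [h4]
            _ = y * (y ^ 3)⁻¹ := by group
            _ = y := by rw [hy3]; group
        rw [h7] at h6
        exact h6
    apply Subtype.ext
    apply Subtype.ext
    rw [inv_mul_eq_one] at h3
    exact h3
  have horb : (MulAction.orbit (M y) c0).ncard ≤ Nat.card {c : K ⧸ N // y • c = c} := by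
    have hsub : MulAction.orbit (M y) c0 ⊆ {c : K ⧸ N | y • c = c} := by
      rintro _ ⟨g, rfl⟩
      have hg := mem_M.mp g.2
      have h1 : ((g : K)⁻¹ * y * (g : K)) ∈ N := by
        have h2 := mem_M.mp ((M y).inv_mem g.2)
        rw [inv_inv] at h2
        rcases h2 with h2 | h2
        · rw [h2]; exact hy
        · rw [h2]; exact N.inv_mem hy
      change y • ((g : K) • c0) = (g : K) • c0
      have h3 : ((g : K)⁻¹ * y * (g : K)) • c0 = c0 := h.smul_base.mpr h1
      calc y • ((g : K) • c0) = (g : K) • (((g : K)⁻¹ * y * (g : K)) • c0) := by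
            rw [smul_smul, smul_smul]; congr 1; group
        _ = (g : K) • c0 := by rw [h3]
    exact Set.ncard_le_ncard hsub (Set.toFinite _)
  have hidx := MulAction.index_stabilizer (M y) c0
  have hmul := card_mul_index (MulAction.stabilizer (M y) c0)
  rw [hidx] at hmul
  rw [← hmul]
  exact Nat.mul_le_mul hstab horb

/-- the number of elements of `N` outside `U` -/
theorem card_fix_le {y : K} (hy : y ∈ normalizer (U : Set K)) (hyU : y ∉ U) :
    Nat.card {c : K ⧸ normalizer (U : Set K) // y • c = c} ≤ 2 := by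
  classical
  set N := normalizer (U : Set K) with hNdef
  have hy3 := h.pow_three hN hy hyU
  have hy1 : y ≠ 1 := fun h0 => hyU (h0 ▸ U.one_mem)
  have hyy : y ≠ y⁻¹ := by
    intro h0
    apply hy1
    calc y = y ^ 3 * (y * y)⁻¹ := by group
      _ = (y * y⁻¹)⁻¹ := by rw [hy3, ← h0, one_mul]
      _ = 1 := by group
  set c0 : K ⧸ N := ((1 : K) : K ⧸ N) with hc0
  have hc0fix : y • c0 = c0 := h.smul_base.mpr hy
  -- splitting off the base point
  have hsplit : Nat.card {c : K ⧸ N // y • c = c} =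
      Nat.card {c : K ⧸ N // y • c = c ∧ c ≠ c0} + 1 := by
    have h1 : {c : K ⧸ N | y • c = c} = insert c0 {c : K ⧸ N | y • c = c ∧ c ≠ c0} := by
      ext c
      simp only [Set.mem_setOf_eq, Set.mem_insert_iff]
      constructor
      · intro hc
        by_cases hcc : c = c0
        · exact Or.inl hcc
        · exact Or.inr ⟨hc, hcc⟩
      · rintro (rfl | hc)
        · exact hc0fix
        · exact hc.1
    have h2 := Set.ncard_insert_of_notMem (a := c0) (s := {c : K ⧸ N | y • c = c ∧ c ≠ c0})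
      (by simp) (Set.toFinite _)
    rw [← h1] at h2
    exact h2
  rcases isEmpty_or_nonempty {c : K ⧸ N // y • c = c ∧ c ≠ c0} with he | ⟨⟨c1, hc1, hc10⟩⟩
  · rw [hsplit, Nat.card_of_isEmpty]; norm_num
  -- an involution inverting `y`
  have hpos : 0 < Nat.card (A U c1) := by rw [h.card_A_three hN c1]; norm_num
  obtain ⟨⟨a⟩, -⟩ := Nat.card_pos_iff.mp hpos
  have hainv : a.1 * y * a.1⁻¹ = y⁻¹ :=
    h.inverts hN hc10 a ((h.smul_eq_iff hN a hy).mp hc1)
  -- the set of involutions inverting `y`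
  let I := {s : K // s * s = 1 ∧ s * y * s⁻¹ = y⁻¹}
  let Cy := {g : K // g * y * g⁻¹ = y}
  have hlow : 3 * Nat.card {c : K ⧸ N // y • c = c ∧ c ≠ c0} ≤ Nat.card I := by
    haveI := Fintype.ofFinite {c : K ⧸ N // y • c = c ∧ c ≠ c0}
    have hsig : Nat.card (Σ c : {c : K ⧸ N // y • c = c ∧ c ≠ c0}, A U c.1) =
        3 * Nat.card {c : K ⧸ N // y • c = c ∧ c ≠ c0} := by
      rw [Nat.card_sigma, Finset.sum_congr rfl (fun c _ => h.card_A_three hN c.1),
        Finset.sum_const, Finset.card_univ, Nat.card_eq_fintype_card, smul_eq_mul, mul_comm]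
    rw [← hsig]
    apply Nat.card_le_card_of_injective
      (fun p : (Σ c : {c : K ⧸ N // y • c = c ∧ c ≠ c0}, A U c.1) =>
        (⟨p.2.1, p.2.2.1.2, h.inverts hN p.1.2.2 p.2 ((h.smul_eq_iff hN p.2 hy).mp p.1.2.1)⟩ : I))
    rintro ⟨⟨c, hc⟩, ⟨s, hs, hsc⟩⟩ ⟨⟨c', hc'⟩, ⟨s', hs', hsc'⟩⟩ heq
    have h1 : s = s' := congrArg Subtype.val heq
    subst h1
    have h2 : c = c' := hsc.symm.trans hsc'
    subst h2
    rfl
  have hI : Nat.card I ≤ Nat.card Cy := by
    apply Nat.card_le_card_of_injective (fun s : I => (⟨a.1 * s.1, by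
      calc a.1 * s.1 * y * (a.1 * s.1)⁻¹ = a.1 * (s.1 * y * s.1⁻¹) * a.1⁻¹ := by group
        _ = (a.1 * y * a.1⁻¹)⁻¹ := by rw [s.2.2]; group
        _ = y := by rw [hainv, inv_inv]⟩ : Cy))
    intro s s' hss
    exact Subtype.ext (mul_left_cancel (congrArg Subtype.val hss))
  have hM : Nat.card Cy + Nat.card Cy ≤ Nat.card (M y) := by
    rw [← Nat.card_sum]
    apply Nat.card_le_card_of_injective (fun g : Cy ⊕ Cy => match g with
      | Sum.inl g => (⟨g.1, Or.inl g.2⟩ : M y)
      | Sum.inr g => (⟨a.1 * g.1, Or.inr (by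
          calc a.1 * g.1 * y * (a.1 * g.1)⁻¹ = a.1 * (g.1 * y * g.1⁻¹) * a.1⁻¹ := by group
            _ = y⁻¹ := by rw [g.2, hainv])⟩ : M y))
    rintro (⟨g, hg⟩ | ⟨g, hg⟩) (⟨g', hg'⟩ | ⟨g', hg'⟩) heq
    · have h1 : g = g' := congrArg Subtype.val heq
      subst h1; rfl
    · exfalso
      have h1 : g = a.1 * g' := congrArg Subtype.val heq
      apply hyy
      calc y = g * y * g⁻¹ := hg.symm
        _ = a.1 * (g' * y * g'⁻¹) * a.1⁻¹ := by rw [h1]; group
        _ = y⁻¹ := by rw [hg', hainv]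
    · exfalso
      have h1 : a.1 * g = g' := congrArg Subtype.val heq
      apply hyy
      calc y = g' * y * g'⁻¹ := hg'.symm
        _ = a.1 * (g * y * g⁻¹) * a.1⁻¹ := by rw [← h1]; group
        _ = y⁻¹ := by rw [hg, hainv]
    · have h1 : a.1 * g = a.1 * g' := congrArg Subtype.val heq
      have h2 := mul_left_cancel h1
      subst h2; rfl
  have h3 := h.card_M_le hN hy hyU
  rw [hsplit] at h3 ⊢
  omega

theorem card_outside : Nat.card {y : K // y ∈ normalizer (U : Set K) ∧ y ∉ U} = 8 := by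
  have hUle : U ≤ normalizer (U : Set K) := le_normalizer
  have h1 : {y : K | y ∈ normalizer (U : Set K) ∧ y ∉ U} =
      ((normalizer (U : Set K) : Subgroup K) : Set K) \ (U : Set K) := by
    ext y; simp
  have h2 := Set.ncard_diff_add_ncard_of_subset (s := (U : Set K))
    (t := ((normalizer (U : Set K) : Subgroup K) : Set K)) (fun x hx => hUle hx) (Set.toFinite _)
  have h3 : ((normalizer (U : Set K) : Subgroup K) : Set K).ncard = 12 := hN
  have h4 : (U : Set K).ncard = 4 := h.card4
  rw [h3, h4, ← h1] at h2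
  have h5 : {y : K | y ∈ normalizer (U : Set K) ∧ y ∉ U}.ncard = 8 := by omega
  exact h5

theorem card_fixing_outside {c : K ⧸ normalizer (U : Set K)}
    (hc : c ≠ ((1 : K) : K ⧸ normalizer (U : Set K))) :
    Nat.card {y : K // (y ∈ normalizer (U : Set K) ∧ y ∉ U) ∧ y • c = c} = 2 := by
  have hpos : 0 < Nat.card (A U c) := by rw [h.card_A_three hN c]; norm_num
  obtain ⟨⟨a⟩, -⟩ := Nat.card_pos_iff.mp hpos
  have h1 : {y : K | (y ∈ normalizer (U : Set K) ∧ y ∉ U) ∧ y • c = c} =
      (B U a.1 : Set K) \ {1} := by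
    ext y
    simp only [Set.mem_setOf_eq, Set.mem_diff, SetLike.mem_coe, Set.mem_singleton_iff]
    constructor
    · rintro ⟨⟨h2, h3⟩, h4⟩
      refine ⟨(h.smul_eq_iff hN a h2).mp h4, ?_⟩
      rintro rfl
      exact h3 U.one_mem
    · rintro ⟨h2, h3⟩
      have h4 := (mem_B.mp h2).1
      refine ⟨⟨h4, fun h5 => h3 (h.inf_B_eq_bot a.2.1.2 (h.notMem_of_ne hc a) h5 h2)⟩,
        (h.smul_eq_iff hN a h4).mpr h2⟩
  have h2 : (B U a.1 : Set K).ncard = 3 := h.card_B_three hN hc a
  have h3 : ((B U a.1 : Set K) \ {1}).ncard = 2 := by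
    rw [Set.ncard_diff_singleton_of_mem (B U a.1).one_mem, h2]
  rw [← h1] at h3
  exact h3

theorem card_quot_le : Nat.card (K ⧸ normalizer (U : Set K)) ≤ 5 := by
  classical
  set N := normalizer (U : Set K) with hNdef
  set c0 : K ⧸ N := ((1 : K) : K ⧸ N) with hc0
  haveI := Fintype.ofFinite {c : K ⧸ N // c ≠ c0}
  have hsig : Nat.card (Σ c : {c : K ⧸ N // c ≠ c0}, {y : K // (y ∈ N ∧ y ∉ U) ∧ y • c.1 = c.1}) =
      2 * Nat.card {c : K ⧸ N // c ≠ c0} := by
    rw [Nat.card_sigma, Finset.sum_congr rfl (fun c _ => h.card_fixing_outside hN c.2),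
      Finset.sum_const, Finset.card_univ, Nat.card_eq_fintype_card, smul_eq_mul, mul_comm]
  have hle : Nat.card (Σ c : {c : K ⧸ N // c ≠ c0}, {y : K // (y ∈ N ∧ y ∉ U) ∧ y • c.1 = c.1}) ≤ 8 := by
    rw [← h.card_outside hN]
    apply Nat.card_le_card_of_injective
      (fun p : (Σ c : {c : K ⧸ N // c ≠ c0}, {y : K // (y ∈ N ∧ y ∉ U) ∧ y • c.1 = c.1}) =>
        (⟨p.2.1, p.2.2.1⟩ : {y : K // y ∈ N ∧ y ∉ U}))
    rintro ⟨⟨c, hc⟩, ⟨y, hy, hyc⟩⟩ ⟨⟨c', hc'⟩, ⟨y', hy', hyc'⟩⟩ heq
    have h1 : y = y' := congrArg Subtype.val heq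
    subst h1
    have hcc : c = c' := by
      by_contra hne
      have hfix := h.card_fix_le hN hy.1 hy.2
      have h3 : ({c0, c, c'} : Set (K ⧸ N)).ncard = 3 := by
        rw [Set.ncard_eq_three]
        exact ⟨c0, c, c', hc.symm, hc'.symm, hne, rfl⟩
      have h4 : ({c0, c, c'} : Set (K ⧸ N)) ⊆ {c : K ⧸ N | y • c = c} := by
        rintro x (rfl | rfl | rfl)
        · exact h.smul_base.mpr hy.1
        · exact hyc
        · exact hyc'
      have h5 := Set.ncard_le_ncard h4 (Set.toFinite _)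
      rw [h3] at h5
      have h6 : {c : K ⧸ N | y • c = c}.ncard ≤ 2 := hfix
      omega
    subst hcc
    rfl
  have h1 : Nat.card {c : K ⧸ N // c ≠ c0} + 1 = Nat.card (K ⧸ N) := by
    have h2 : (({c0} : Set (K ⧸ N))ᶜ).ncard + 1 = Nat.card (K ⧸ N) := by
      have := Set.ncard_add_ncard_compl ({c0} : Set (K ⧸ N))
      rw [Set.ncard_singleton] at this
      omega
    exact h2
  omega

theorem five_le_card_quot (hne : Nat.card (K ⧸ normalizer (U : Set K)) ≠ 1) :
    5 ≤ Nat.card (K ⧸ normalizer (U : Set K)) := by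
  set N := normalizer (U : Set K) with hNdef
  set c0 : K ⧸ N := ((1 : K) : K ⧸ N) with hc0
  have hex : ∃ c : K ⧸ N, c ≠ c0 := by
    by_contra hcon
    push Not at hcon
    apply hne
    rw [Nat.card_eq_one_iff_unique]
    exact ⟨⟨fun x y => (hcon x).trans (hcon y).symm⟩, ⟨c0⟩⟩
  obtain ⟨c, hc⟩ := hex
  have hpos : 0 < Nat.card (A U c) := by rw [h.card_A_three hN c]; norm_num
  obtain ⟨⟨a⟩, -⟩ := Nat.card_pos_iff.mp hpos
  have hstab : Nat.card (MulAction.stabilizer N c) = 3 := by
    rw [← h.card_B_three hN hc a]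
    apply Nat.card_congr
    refine ⟨fun g => ⟨(g : N), (h.smul_eq_iff hN a (g : N).2).mp g.2⟩,
      fun y => ⟨⟨y.1, (mem_B.mp y.2).1⟩, (h.smul_eq_iff hN a (mem_B.mp y.2).1).mpr y.2⟩,
      fun g => rfl, fun y => rfl⟩
  have horb : (MulAction.orbit N c).ncard = 4 := by
    have hidx := MulAction.index_stabilizer N c
    have hmul := card_mul_index (MulAction.stabilizer N c)
    rw [hidx, hstab, hN] at hmul
    omega
  have hnot : c0 ∉ MulAction.orbit N c := by
    rintro ⟨g, hg⟩
    have hg' : (g : K) • c = c0 := hg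
    apply hc
    have h2 : (g : K)⁻¹ • c0 = c0 := h.smul_base.mpr (N.inv_mem g.2)
    rw [← h2, ← hg', inv_smul_smul]
  have h2 := Set.ncard_insert_of_notMem hnot (Set.toFinite _)
  rw [horb] at h2
  have h3 := Set.ncard_le_card (insert c0 (MulAction.orbit N c))
  omega

end Twelve

/-- **Main count.** A finite group with a self-centralising four-group containing the centralisers
of its involutions has order 4, 12 or 60. -/
theorem card_cases : Nat.card K = 4 ∨ Nat.card K = 12 ∨ Nat.card K = 60 := by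
  rcases h.card_normalizer with hN | hN
  · left; exact h.card_eq_four hN
  · right
    have hmul := card_eq_card_quotient_mul_card_subgroup (normalizer (U : Set K))
    by_cases hk : Nat.card (K ⧸ normalizer (U : Set K)) = 1
    · left; rw [hmul, hk, hN]
    · right
      have h1 := h.five_le_card_quot hN hk
      have h2 := h.card_quot_le hN
      have h3 : Nat.card (K ⧸ normalizer (U : Set K)) = 5 := le_antisymm h2 h1
      rw [hmul, h3, hN]

theorem card_normalizer_of_sixty (hK : Nat.card K = 60) :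
    Nat.card (normalizer (U : Set K)) = 12 := by
  rcases h.card_normalizer with hN | hN
  · have := h.card_eq_four hN
    omega
  · exact hN

/-- the kernel of the action on the cosets of `N` is trivial in the case of order 60 -/
theorem eq_one_of_forall_smul (hK : Nat.card K = 60) {x : K}
    (hx : ∀ c : K ⧸ normalizer (U : Set K), x • c = c) : x = 1 := by
  have hN := h.card_normalizer_of_sixty hK
  have hmul := card_eq_card_quotient_mul_card_subgroup (normalizer (U : Set K))
  rw [hK, hN] at hmul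
  have h5 : Nat.card (K ⧸ normalizer (U : Set K)) = 5 := by omega
  have hxN : x ∈ normalizer (U : Set K) := h.smul_base.mp (hx _)
  by_contra hx1
  by_cases hxU : x ∈ U
  · -- choose a point other than the base
    have hex : ∃ c : K ⧸ normalizer (U : Set K), c ≠ ((1 : K) : K ⧸ normalizer (U : Set K)) := by
      by_contra hcon
      push Not at hcon
      have : Nat.card (K ⧸ normalizer (U : Set K)) = 1 := by
        rw [Nat.card_eq_one_iff_unique]
        exact ⟨⟨fun x y => (hcon x).trans (hcon y).symm⟩, ⟨((1 : K) : K ⧸ normalizer (U : Set K))⟩⟩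
      omega
    obtain ⟨c, hc⟩ := hex
    have hpos : 0 < Nat.card (A U c) := by rw [h.card_A_three hN c]; norm_num
    obtain ⟨⟨a⟩, -⟩ := Nat.card_pos_iff.mp hpos
    exact hx1 (h.inf_B_eq_bot a.2.1.2 (h.notMem_of_ne hc a) hxU
      ((h.smul_eq_iff hN a hxN).mp (hx c)))
  · have h1 := h.card_fix_le hN hxN hxU
    have h2 : Nat.card {c : K ⧸ normalizer (U : Set K) // x • c = c} = 5 := by
      rw [← h5]
      exact Nat.card_congr (Equiv.subtypeUnivEquiv hx)
    omega

/-- In the case of order 60 the group is the alternating group of degree 5. -/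
theorem equiv_of_card_60 (hK : Nat.card K = 60) : Nonempty (K ≃* alternatingGroup (Fin 5)) := by
  classical
  have hN := h.card_normalizer_of_sixty hK
  have hmul := card_eq_card_quotient_mul_card_subgroup (normalizer (U : Set K))
  rw [hK, hN] at hmul
  have h5 : Nat.card (K ⧸ normalizer (U : Set K)) = 5 := by omega
  have e : (K ⧸ normalizer (U : Set K)) ≃ Fin 5 := by
    rw [← h5]; exact Finite.equivFin _
  let f : K →* Equiv.Perm (Fin 5) :=
    (e.permCongrHom : Equiv.Perm (K ⧸ normalizer (U : Set K)) ≃* Equiv.Perm (Fin 5)).toMonoidHom.comp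
      (MulAction.toPermHom K (K ⧸ normalizer (U : Set K)))
  have hf : Function.Injective f := by
    rw [injective_iff_map_eq_one]
    intro x hx
    apply h.eq_one_of_forall_smul hK
    have h1 : MulAction.toPermHom K (K ⧸ normalizer (U : Set K)) x = 1 := by
      have : (e.permCongrHom : Equiv.Perm (K ⧸ normalizer (U : Set K)) ≃* Equiv.Perm (Fin 5))
        (MulAction.toPermHom K (K ⧸ normalizer (U : Set K)) x) = 1 := hx
      exact (map_eq_one_iff _ (MulEquiv.injective _)).mp this
    intro c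
    have := congrArg (fun σ => σ c) h1
    simpa using this
  have hrange : Nat.card f.range = 60 := by
    rw [← hK]
    exact (Nat.card_congr (MonoidHom.ofInjective hf).toEquiv).symm
  have hidx : f.range.index = 2 := by
    have h1 := card_mul_index f.range
    rw [hrange, Nat.card_eq_fintype_card, Fintype.card_perm, Fintype.card_fin] at h1
    have h2 : Nat.factorial 5 = 120 := rfl
    rw [h2] at h1
    omega
  have hA := Equiv.Perm.eq_alternatingGroup_of_index_eq_two hidx
  exact ⟨(MonoidHom.ofInjective hf).trans (MulEquiv.subgroupCongr hA)⟩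

end Fin

end Hyp

end Cfsg.Agent.J2Type.FourSelfCent
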