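import Mathlib
import Cfsg.Agent.J2Type.Base
import Cfsg.Agent.J2Type.TransferAb
set_option linter.all false

-- part: J2Type/HStr
section
/-!
Structure of the centraliser of the second involution `u` in a group of Hall–Janko type:
a normal subgroup `H0` of index 4 in `C(u)` with a self-centralising four-group.
-/

set_option autoImplicit false

namespace Cfsg.Agent.J2Type.HStr

open Subgroup

/-- `H0` is a normal subgroup of index 4 of `C(u)`, not containing `u`, whose involutions are the conjugates of `z`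
commuting with `u`, and in which every involution has centraliser elementary abelian of order 4. -/
structure HStr {G : Type*} [Group G] (z u : G) (H0 : Subgroup G) : Prop where
  le : H0 ≤ centralizer ({u} : Set G)
  card : Nat.card (centralizer ({u} : Set G)) = 4 * Nat.card H0
  conj_mem : ∀ h ∈ centralizer ({u} : Set G), ∀ x ∈ H0, h * x * h⁻¹ ∈ H0
  sq_mem : ∀ h ∈ centralizer ({u} : Set G), h * h ∈ H0
  notMem : u ∉ H0
  invol : ∀ x ∈ H0, orderOf x = 2 → IsConj z x
  z_mem : ∀ x, IsConj z x → x * u = u * x → x ∈ H0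
  cent4 : ∀ x ∈ H0, orderOf x = 2 →
    Nat.card (H0 ⊓ centralizer ({x} : Set G) : Subgroup G) = 4 ∧
      ∀ y ∈ (H0 ⊓ centralizer ({x} : Set G) : Subgroup G), y * y = 1

end Cfsg.Agent.J2Type.HStr
end

-- part: J2Type/CentU
section
/-!
Centraliser of the second involution `u` in a group of Hall–Janko type.
-/

set_option autoImplicit false

namespace Cfsg.Agent.J2Type.CentU

open Subgroup Cfsg.Agent.J2Type.Base Cfsg.Agent.J2Type.HStr

variable {G : Type*} [Group G] {z u : G}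

/-- `E = C(z) ∩ C(u)`. -/
def E (z u : G) : Subgroup G := centralizer ({z} : Set G) ⊓ centralizer ({u} : Set G)

theorem mem_E {x : G} : x ∈ E z u ↔ x * z = z * x ∧ x * u = u * x := by
  unfold E
  rw [mem_inf, mem_centralizer_singleton_iff, mem_centralizer_singleton_iff]

theorem mem_C {x u : G} : x ∈ centralizer ({u} : Set G) ↔ x * u = u * x :=
  mem_centralizer_singleton_iff

/-- conjugation action of a subgroup `N` on a subgroup `E` it normalises -/
@[reducible] def conjAct (N E : Subgroup G) (h : ∀ n ∈ N, ∀ e ∈ E, n * e * n⁻¹ ∈ E) : MulAction N E where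
  smul n e := ⟨n * e * (n : G)⁻¹, h n n.2 e e.2⟩
  one_smul e := Subtype.ext (by change (1 : G) * e * (1 : G)⁻¹ = e; group)
  mul_smul a b e := Subtype.ext (by
    change ((a * b : N) : G) * e * ((a * b : N) : G)⁻¹ = a * (b * e * (b : G)⁻¹) * (a : G)⁻¹
    push_cast; group)

/-- conjugation action of a subgroup on an invariant set -/
@[reducible] def conjActS (N : Subgroup G) (p : G → Prop) (h : ∀ n ∈ N, ∀ e, p e → p (n * e * n⁻¹)) :
    MulAction N {x : G // p x} where
  smul n e := ⟨n * e * (n : G)⁻¹, h n n.2 e e.2⟩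
  one_smul e := Subtype.ext (by change (1 : G) * e * (1 : G)⁻¹ = e; group)
  mul_smul a b e := Subtype.ext (by
    change ((a * b : N) : G) * e * ((a * b : N) : G)⁻¹ = a * (b * e * (b : G)⁻¹) * (a : G)⁻¹
    push_cast; group)

theorem conj_comm_iff {g x y : G} : (g * x * g⁻¹) * (g * y * g⁻¹) = (g * y * g⁻¹) * (g * x * g⁻¹) ↔
    x * y = y * x := by
  constructor
  · intro h
    have : g * (x * y) * g⁻¹ = g * (y * x) * g⁻¹ := by
      calc g * (x * y) * g⁻¹ = (g * x * g⁻¹) * (g * y * g⁻¹) := by group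
        _ = _ := h
        _ = _ := by group
    simpa using this
  · intro h
    calc (g * x * g⁻¹) * (g * y * g⁻¹) = g * (x * y) * g⁻¹ := by group
      _ = g * (y * x) * g⁻¹ := by rw [h]
      _ = _ := by group

theorem card_E_conj (g : G) : Nat.card (E (g * z * g⁻¹) (g * u * g⁻¹)) = Nat.card (E z u) := by
  refine Nat.card_congr ⟨fun x => ⟨g⁻¹ * x * g, ?_⟩, fun x => ⟨g * x * g⁻¹, ?_⟩, ?_, ?_⟩
  · have hx := mem_E.mp x.2
    rw [mem_E]
    constructor
    · rw [← conj_comm_iff (g := g)]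
      have : g * (g⁻¹ * (x : G) * g) * g⁻¹ = x := by group
      rw [this]; exact hx.1
    · rw [← conj_comm_iff (g := g)]
      have : g * (g⁻¹ * (x : G) * g) * g⁻¹ = x := by group
      rw [this]; exact hx.2
  · have hx := mem_E.mp x.2
    rw [mem_E]
    exact ⟨conj_comm_iff.mpr hx.1, conj_comm_iff.mpr hx.2⟩
  · intro x; apply Subtype.ext; dsimp only; group
  · intro x; apply Subtype.ext; dsimp only; group

section

variable (h : Fus z u)
include h

theorem zz : z * z = 1 := by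
  have := pow_orderOf_eq_one z
  rwa [h.hz, pow_two] at this

theorem uu : u * u = 1 := by
  have := pow_orderOf_eq_one u
  rwa [h.hu, pow_two] at this

theorem z_ne : z ≠ 1 := by
  intro h0
  have := h.hz
  rw [h0, orderOf_one] at this
  omega

theorem u_ne : u ≠ 1 := by
  intro h0
  have := h.hu
  rw [h0, orderOf_one] at this
  omega

theorem isConj_ne {x : G} (hx : IsConj z x) : x ≠ 1 := by
  rintro rfl
  exact z_ne h (isConj_one_left.mp hx)

theorem sq_E {x : G} (hx : x ∈ E z u) : x * x = 1 := h.sqE x (mem_E.mp hx).1 (mem_E.mp hx).2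

theorem inv_E {x : G} (hx : x ∈ E z u) : x⁻¹ = x := (eq_inv_of_mul_eq_one_left (sq_E h hx)).symm

theorem comm_E {x y : G} (hx : x ∈ E z u) (hy : y ∈ E z u) : x * y = y * x := by
  have h1 := inv_E h ((E z u).mul_mem hx hy)
  rw [mul_inv_rev, inv_E h hx, inv_E h hy] at h1
  exact h1.symm

theorem z_mem_E : z ∈ E z u := mem_E.mpr ⟨rfl, h.comm⟩
theorem u_mem_E : u ∈ E z u := mem_E.mpr ⟨h.comm.symm, rfl⟩

theorem card_E : Nat.card (E z u) = 16 := h.cardE

/-- The four-group `U` of `E`. -/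
def U : Subgroup G where
  carrier := {x | x = 1 ∨ (IsConj z x ∧ x ∈ E z u)}
  one_mem' := Or.inl rfl
  mul_mem' := by
    rintro a b (rfl | ⟨ha, ha'⟩) (rfl | ⟨hb, hb'⟩)
    · left; simp
    · right; rw [one_mul]; exact ⟨hb, hb'⟩
    · right; rw [mul_one]; exact ⟨ha, ha'⟩
    · by_cases hab : a = b
      · left; rw [hab]; exact sq_E h hb'
      · right
        exact ⟨h.mul_z a b ha hb (comm_E h ha' hb') hab, (E z u).mul_mem ha' hb'⟩
  inv_mem' := by
    rintro a (rfl | ⟨ha, ha'⟩)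
    · left; simp
    · right; rw [inv_E h ha']; exact ⟨ha, ha'⟩

theorem mem_U {x : G} : x ∈ U h ↔ x = 1 ∨ (IsConj z x ∧ x ∈ E z u) := Iff.rfl

theorem U_le : U h ≤ E z u := by
  rintro x (rfl | ⟨_, hx⟩)
  · exact one_mem _
  · exact hx

theorem z_mem_U : z ∈ U h := Or.inr ⟨IsConj.refl z, z_mem_E h⟩

theorem u_notMem_U : u ∉ U h := by
  rintro (h0 | ⟨h1, _⟩)
  · exact u_ne h h0
  · exact h.nconj h1

theorem card_U [Finite G] : Nat.card (U h) = 4 := by
  classical
  have h1 : Nat.card {x : G // IsConj z x ∧ x * z = z * x ∧ x * u = u * x} = 3 := h.card3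
  have e : (U h) ≃ Option {x : G // IsConj z x ∧ x * z = z * x ∧ x * u = u * x} := by
    refine ⟨fun x => if hx : (x : G) = 1 then none else some ⟨x, ?_⟩,
      fun o => match o with
        | none => ⟨1, one_mem _⟩
        | some x => ⟨x, Or.inr ⟨x.2.1, mem_E.mpr x.2.2⟩⟩, ?_, ?_⟩
    · rcases x.2 with h0 | ⟨h1, h2⟩
      · exact absurd h0 hx
      · exact ⟨h1, mem_E.mp h2⟩
    · intro x
      by_cases hx : (x : G) = 1
      · apply Subtype.ext; simp [hx]
      · apply Subtype.ext; simp [hx]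
    · intro o
      cases o with
      | none => simp
      | some x =>
        have : (x : G) ≠ 1 := isConj_ne h x.2.1
        simp [this]
  rw [Nat.card_congr e, Finite.card_option, h1]

/-- transitivity of `C(u)` on the conjugates of `z` commuting with `u` -/
theorem trans {x : G} (hx : IsConj z x) (hxu : x * u = u * x) :
    ∃ g, g * u = u * g ∧ g * z * g⁻¹ = x := by
  obtain ⟨g, h1, h2⟩ := h.pair x u hx (IsConj.refl u) hxu
  refine ⟨g, ?_, h1⟩
  exact mul_inv_eq_iff_eq_mul.mp h2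

/-- For `x ∈ U#`, `C(x) ∩ C(u) = E`. -/
theorem cent_eq [Finite G] {x : G} (hx : IsConj z x) (hxE : x ∈ E z u) : E x u = E z u := by
  obtain ⟨g, h1, h2⟩ := trans h hx (mem_E.mp hxE).2
  symm
  apply Subgroup.eq_of_le_of_card_ge
  · intro y hy
    exact mem_E.mpr ⟨comm_E h hy hxE, (mem_E.mp hy).2⟩
  · have : E x u = E (g * z * g⁻¹) (g * u * g⁻¹) := by
      rw [h2]
      congr 1
      rw [h1]; group
    rw [this, card_E_conj]

/-- elements of `C(u)` moving `z` into `U` normalise `E` -/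
theorem conj_mem_E [Finite G] {g : G} (hgu : g * u = u * g) (hx : g * z * g⁻¹ ∈ E z u) {e : G}
    (he : e ∈ E z u) : g * e * g⁻¹ ∈ E z u := by
  rw [← cent_eq h (isConj_iff.mpr ⟨g, rfl⟩) hx, mem_E]
  constructor
  · exact conj_comm_iff.mpr (mem_E.mp he).1
  · have : g * u * g⁻¹ = u := by rw [hgu]; group
    conv_lhs => rw [← this]
    conv_rhs => rw [← this]
    exact conj_comm_iff.mpr (mem_E.mp he).2

/-- the normaliser of `E` in `C(u)` -/
def N (_ : Fus z u) : Subgroup G := centralizer ({u} : Set G) ⊓ normalizer (E z u : Set G)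

theorem mem_N [Finite G] {g : G} (hgu : g * u = u * g) (hx : g * z * g⁻¹ ∈ E z u) : g ∈ N h := by
  refine mem_inf.mpr ⟨mem_C.mpr hgu, ?_⟩
  rw [mem_normalizer_iff]
  intro e
  constructor
  · exact fun he => conj_mem_E h hgu hx he
  · intro he
    rw [← cent_eq h (isConj_iff.mpr ⟨g, rfl⟩) hx, mem_E] at he
    have hu : g * u * g⁻¹ = u := by rw [hgu]; group
    refine mem_E.mpr ⟨conj_comm_iff.mp he.1, ?_⟩
    have := he.2
    rw [← hu] at this
    rw [← conj_comm_iff (g := g)]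
    simpa [hu] using he.2

theorem N_comm {g : G} (hg : g ∈ N h) : g * u = u * g := mem_C.mp (mem_inf.mp hg).1

theorem N_conj {g : G} (hg : g ∈ N h) {e : G} (he : e ∈ E z u) : g * e * g⁻¹ ∈ E z u :=
  (mem_normalizer_iff.mp (mem_inf.mp hg).2 e).mp he

theorem E_le_N : E z u ≤ N h := by
  intro x hx
  exact mem_inf.mpr ⟨(mem_inf.mp hx).2, le_normalizer hx⟩

omit h in
theorem isConj_conj {x : G} (hx : IsConj z x) (g : G) : IsConj z (g * x * g⁻¹) :=
  hx.trans (isConj_iff.mpr ⟨g, rfl⟩)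

theorem card_N [Finite G] : Nat.card (N h) = 48 := by
  classical
  let p : G → Prop := fun x => IsConj z x ∧ x * z = z * x ∧ x * u = u * x
  let _ : MulAction (N h) {x : G // p x} := conjActS (N h) p (by
    intro n hn e he
    have h1 := N_conj h hn (mem_E.mpr he.2)
    exact ⟨isConj_conj he.1 n, mem_E.mp h1⟩)
  have hsmul : ∀ (n : N h) (x : {x : G // p x}), ((n • x : {x : G // p x}) : G) = n * x * (n : G)⁻¹ :=
    fun _ _ => rfl
  let z0 : {x : G // p x} := ⟨z, IsConj.refl z, rfl, h.comm⟩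
  have htrans : ∀ x : {x : G // p x}, ∃ n : N h, n • z0 = x := by
    intro x
    obtain ⟨g, h1, h2⟩ := trans h x.2.1 x.2.2.2
    refine ⟨⟨g, mem_N h h1 ?_⟩, Subtype.ext h2⟩
    rw [h2]
    exact mem_E.mpr x.2.2
  have : MulAction.IsPretransitive (N h) {x : G // p x} := by
    constructor
    intro x y
    obtain ⟨n, hn⟩ := htrans x
    obtain ⟨m, hm⟩ := htrans y
    exact ⟨m * n⁻¹, by rw [← hn, mul_smul, inv_smul_smul, hm]⟩
  have h3 : (MulAction.stabilizer (N h) z0).index = 3 := by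
    rw [MulAction.index_stabilizer_of_transitive]
    exact h.card3
  have h4 : MulAction.stabilizer (N h) z0 = (E z u).subgroupOf (N h) := by
    ext n
    rw [MulAction.mem_stabilizer_iff, mem_subgroupOf]
    constructor
    · intro hn
      have h5 : (n : G) * z * (n : G)⁻¹ = z := congrArg Subtype.val hn
      exact mem_E.mpr ⟨mul_inv_eq_iff_eq_mul.mp h5, N_comm h n.2⟩
    · intro hn
      apply Subtype.ext
      change (n : G) * z * (n : G)⁻¹ = z
      rw [(mem_E.mp hn).1]; group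
  have h5 : Nat.card ((E z u).subgroupOf (N h)) = 16 := by
    rw [Nat.card_congr (subgroupOfEquivOfLe (E_le_N h)).toEquiv, card_E h]
  have h6 := card_mul_index ((E z u).subgroupOf (N h))
  rw [← h4, h3, h4, h5] at h6
  omega

theorem exists_f [Finite G] : ∃ f ∈ N h, orderOf f = 3 := by
  have h3 : 3 ∣ Nat.card (N h) := by rw [card_N h]; norm_num
  have : Fact (Nat.Prime 3) := ⟨Nat.prime_three⟩
  obtain ⟨f, hf⟩ := exists_prime_orderOf_dvd_card' 3 h3
  exact ⟨f, f.2, by rw [← hf]; exact orderOf_coe f⟩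

omit h in
theorem E_inf_card_three {f : G} [Finite G] (h : Fus z u) (hf : orderOf f = 3) : f ∉ E z u := by
  intro hfE
  have h1 := sq_E h hfE
  have h2 : orderOf f ∣ 2 := orderOf_dvd_of_pow_eq_one (by rw [pow_two, h1])
  rw [hf] at h2
  omega

variable {f : G} (hfN : f ∈ N h) (hf : orderOf f = 3)
include hfN hf

omit hfN h in
theorem f_cube : f ^ 3 = 1 := by rw [← hf]; exact pow_orderOf_eq_one f

theorem f_not_comm [Finite G] {x : G} (hx : IsConj z x) (hxE : x ∈ E z u) : f * x ≠ x * f := by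
  intro h1
  apply E_inf_card_three h hf
  rw [← cent_eq h hx hxE]
  exact mem_E.mpr ⟨h1, N_comm h hfN⟩

theorem eq_one_of_mem_U [Finite G] {x : G} (hx : x ∈ U h) (hfx : f * x = x * f) : x = 1 := by
  rcases hx with h0 | ⟨h1, h2⟩
  · exact h0
  · exact absurd hfx (f_not_comm h hfN hf h1 h2)

/-- `V = C_E(f)`. -/
def V (_ : Fus z u) (f : G) : Subgroup G := E z u ⊓ centralizer ({f} : Set G)

omit hfN hf in
theorem mem_V {x : G} : x ∈ V h f ↔ x ∈ E z u ∧ x * f = f * x := by
  unfold V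
  rw [mem_inf, mem_centralizer_singleton_iff]

omit hf in
theorem u_mem_V : u ∈ V h f := (mem_V h).mpr ⟨u_mem_E h, (N_comm h hfN).symm⟩

theorem U_inf_V [Finite G] {x : G} (hx : x ∈ U h) (hx' : x ∈ V h f) : x = 1 :=
  eq_one_of_mem_U h hfN hf hx ((mem_V h).mp hx').2.symm

theorem card_V_mod [Finite G] : Nat.card (V h f) % 3 = 1 := by
  classical
  let _ : MulAction (zpowers f) (E z u) := conjAct (zpowers f) (E z u) (by
    intro n hn e he
    have : n ∈ N h := (zpowers_le.mpr hfN) hn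
    exact N_conj h this he)
  have hp : IsPGroup 3 (zpowers f) := by
    rw [IsPGroup.iff_card, Nat.card_zpowers, hf]
    exact ⟨1, by norm_num⟩
  have : Fact (Nat.Prime 3) := ⟨Nat.prime_three⟩
  have h1 := hp.card_modEq_card_fixedPoints (E z u)
  rw [card_E h] at h1
  have h2 : Nat.card (MulAction.fixedPoints (zpowers f) (E z u)) = Nat.card (V h f) := by
    refine Nat.card_congr ⟨fun x => ⟨x.1, (mem_V h).mpr ⟨x.1.2, ?_⟩⟩,
      fun x => ⟨⟨x, ((mem_V h).mp x.2).1⟩, ?_⟩, ?_, ?_⟩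
    · have h3 := x.2 ⟨f, mem_zpowers f⟩
      have h4 : f * (x.1 : G) * f⁻¹ = x.1 := congrArg Subtype.val h3
      exact (mul_inv_eq_iff_eq_mul.mp h4).symm
    · rintro ⟨n, hn⟩
      apply Subtype.ext
      change n * (x : G) * n⁻¹ = x
      obtain ⟨k, rfl⟩ := mem_zpowers_iff.mp hn
      have h5 : Commute (x : G) f := ((mem_V h).mp x.2).2
      rw [(h5.zpow_right k).eq.symm]
      group
    · intro x; rfl
    · intro x; rfl
  rw [h2] at h1
  have := h1.symm
  unfold Nat.ModEq at this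
  omega

omit hfN hf in
theorem V_le_E : V h f ≤ E z u := inf_le_left

/-- product map `U × V → E` -/
theorem mulUV_injective [Finite G] :
    Function.Injective (fun p : U h × V h f =>
      (⟨p.1 * p.2, (E z u).mul_mem (U_le h p.1.2) (V_le_E h p.2.2)⟩ : E z u)) := by
  rintro ⟨a, b⟩ ⟨c, d⟩ hac
  have h1 : (a : G) * b = c * d := congrArg Subtype.val hac
  have h2 : (c : G)⁻¹ * a = d * (b : G)⁻¹ := by
    rw [inv_mul_eq_iff_eq_mul, ← mul_assoc, ← h1]; group
  have h3 : (c : G)⁻¹ * a ∈ U h := (U h).mul_mem ((U h).inv_mem c.2) a.2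
  have h4 : (c : G)⁻¹ * a ∈ V h f := by
    rw [h2]; exact (V h f).mul_mem d.2 ((V h f).inv_mem b.2)
  have h5 := U_inf_V h hfN hf h3 h4
  have h6 : (a : G) = c := (inv_mul_eq_one.mp h5).symm
  rw [h5] at h2
  have h7 : (d : G) = b := mul_inv_eq_one.mp h2.symm
  exact Prod.ext (Subtype.ext h6) (Subtype.ext h7.symm)

theorem card_V [Finite G] : Nat.card (V h f) = 4 := by
  have h1 := Nat.card_le_card_of_injective _ (mulUV_injective h hfN hf)
  rw [Nat.card_prod, card_U h, card_E h] at h1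
  have h2 := card_V_mod h hfN hf
  have h3 : 1 < Nat.card (V h f) := by
    rw [Subgroup.one_lt_card_iff_ne_bot]
    intro h0
    have := u_mem_V h hfN
    rw [h0, mem_bot] at this
    exact u_ne h this
  have h4 : Nat.card (V h f) ∣ 16 := by
    rw [← card_E h]; exact card_dvd_of_le (V_le_E h)
  have h5 : Nat.card (V h f) ≤ 4 := by omega
  interval_cases hc : Nat.card (V h f) <;> simp_all

theorem exists_mul [Finite G] {e : G} (he : e ∈ E z u) : ∃ a ∈ U h, ∃ b ∈ V h f, e = a * b := by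
  have h1 := mulUV_injective h hfN hf
  have h2 : Function.Surjective _ := ((Nat.bijective_iff_injective_and_card _).mpr ⟨h1, by
    rw [Nat.card_prod, card_U h, card_V h hfN hf, card_E h]⟩).2
  obtain ⟨⟨a, b⟩, hab⟩ := h2 ⟨e, he⟩
  exact ⟨a, a.2, b, b.2, (congrArg Subtype.val hab).symm⟩

theorem norm_mem_V {x : G} (hx : x ∈ E z u) :
    x * (f * x * f⁻¹) * (f ^ 2 * x * (f ^ 2)⁻¹) ∈ V h f := by
  have h1 := N_conj h hfN hx
  have h2 := N_conj h ((N h).pow_mem hfN 2) hx
  refine (mem_V h).mpr ⟨(E z u).mul_mem ((E z u).mul_mem hx h1) h2, ?_⟩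
  have h3 : f * (x * (f * x * f⁻¹) * (f ^ 2 * x * (f ^ 2)⁻¹)) * f⁻¹ =
      (f * x * f⁻¹) * (f ^ 2 * x * (f ^ 2)⁻¹) * (f ^ 3 * x * (f ^ 3)⁻¹) := by
    simp only [pow_succ, pow_zero, one_mul]; group
  rw [f_cube hf] at h3
  have h4 : f * (x * (f * x * f⁻¹) * (f ^ 2 * x * (f ^ 2)⁻¹)) * f⁻¹ =
      x * (f * x * f⁻¹) * (f ^ 2 * x * (f ^ 2)⁻¹) := by
    rw [h3, inv_one, mul_one, one_mul, comm_E h ((E z u).mul_mem h1 h2) hx, ← mul_assoc]
  exact (mul_inv_eq_iff_eq_mul.mp h4).symm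

theorem norm_U [Finite G] {x : G} (hx : x ∈ U h) :
    x = (f * x * f⁻¹) * (f ^ 2 * x * (f ^ 2)⁻¹) := by
  have hUc : ∀ n ∈ N h, ∀ y ∈ U h, n * y * n⁻¹ ∈ U h := by
    rintro n hn y (rfl | ⟨h1, h2⟩)
    · left; group
    · right; exact ⟨isConj_conj h1 n, N_conj h hn h2⟩
  have h1 := hUc f hfN x hx
  have h2 := hUc (f ^ 2) ((N h).pow_mem hfN 2) x hx
  have h3 := U_inf_V h hfN hf ((U h).mul_mem ((U h).mul_mem hx h1) h2)
    (norm_mem_V h hfN hf (U_le h hx))
  rw [mul_assoc] at h3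
  have h4 := inv_E h (U_le h hx)
  rw [← mul_eq_one_iff_inv_eq.mp h3, h4]

/-- `N_{C(u)}(E)` centralises `V`. -/
theorem N_comm_V [Finite G] {n v : G} (hn : n ∈ N h) (hv : v ∈ V h f) : n * v = v * n := by
  have h1 : (N h ⊓ centralizer ({v} : Set G) : Subgroup G) = N h := by
    apply Subgroup.eq_of_le_of_card_ge inf_le_left
    have hE : E z u ≤ N h ⊓ centralizer ({v} : Set G) := by
      intro x hx
      exact mem_inf.mpr ⟨E_le_N h hx, mem_C.mpr (comm_E h hx (V_le_E h hv))⟩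
    have hF : f ∈ N h ⊓ centralizer ({v} : Set G) :=
      mem_inf.mpr ⟨hfN, mem_C.mpr ((mem_V h).mp hv).2.symm⟩
    have h16 : 16 ∣ Nat.card (N h ⊓ centralizer ({v} : Set G) : Subgroup G) := by
      rw [← card_E h]; exact card_dvd_of_le hE
    have h3 : 3 ∣ Nat.card (N h ⊓ centralizer ({v} : Set G) : Subgroup G) := by
      rw [← hf, ← Nat.card_zpowers]
      exact card_dvd_of_le (zpowers_le.mpr hF)
    have h48 : 48 ∣ Nat.card (N h ⊓ centralizer ({v} : Set G) : Subgroup G) :=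
      Nat.Coprime.mul_dvd_of_dvd_of_dvd (m := 16) (n := 3) (by norm_num) h16 h3
    rw [card_N h]
    exact Nat.le_of_dvd Nat.card_pos h48
  rw [← h1] at hn
  exact mem_C.mp (mem_inf.mp hn).2

omit h hfN hf in
theorem card_eq_of_conj {x g : G} (H0 : Subgroup G) (hH : ∀ y, y ∈ H0 ↔ g * y * g⁻¹ ∈ H0) :
    Nat.card (H0 ⊓ centralizer ({g * x * g⁻¹} : Set G) : Subgroup G) =
      Nat.card (H0 ⊓ centralizer ({x} : Set G) : Subgroup G) := by
  refine Nat.card_congr ⟨fun y => ⟨g⁻¹ * y * g, ?_⟩, fun y => ⟨g * y * g⁻¹, ?_⟩, ?_, ?_⟩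
  · have h1 := mem_inf.mp y.2
    have h3 : g * (g⁻¹ * (y : G) * g) * g⁻¹ = y := by group
    refine mem_inf.mpr ⟨?_, mem_C.mpr ?_⟩
    · rw [hH, h3]; exact h1.1
    · rw [← conj_comm_iff (g := g), h3]; exact mem_C.mp h1.2
  · have h1 := mem_inf.mp y.2
    exact mem_inf.mpr ⟨(hH _).mp h1.1, mem_C.mpr (conj_comm_iff.mpr (mem_C.mp h1.2))⟩
  · intro y; apply Subtype.ext; dsimp only; group
  · intro y; apply Subtype.ext; dsimp only; group

/-- All the information about `C(u)` and its subgroup `H0`. -/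
structure Full (z u f : G) (U V H0 : Subgroup G) : Prop where
  str : HStr z u H0
  f_ord : orderOf f = 3
  f_mem : f ∈ H0
  zU : z ∈ U
  uV : u ∈ V
  cardU : Nat.card U = 4
  cardV : Nat.card V = 4
  U_le : U ≤ H0
  memU : ∀ x, x ∈ U ↔ x = 1 ∨ (IsConj z x ∧ x * z = z * x ∧ x * u = u * x)
  memV : ∀ x, x ∈ V ↔ (x * z = z * x ∧ x * u = u * x ∧ x * f = f * x)
  mulUV : ∀ x, x * z = z * x → x * u = u * x → ∃ a ∈ U, ∃ b ∈ V, x = a * b
  cap : ∀ x, x ∈ H0 → x * z = z * x → x ∈ U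
  fU : ∀ x ∈ U, f * x * f⁻¹ ∈ U
  f_ne : ∀ x ∈ U, x ≠ 1 → f * x ≠ x * f

theorem exists_full [Finite G] : ∃ H0 : Subgroup G, Full z u f (U h) (V h f) H0 := by
  classical
  let K := centralizer ({u} : Set G)
  let EK : Subgroup K := (E z u).subgroupOf K
  let UK : Subgroup K := (U h).subgroupOf K
  let VK : Subgroup K := (V h f).subgroupOf K
  have hEK : E z u ≤ K := inf_le_right
  have hcardEK : Nat.card EK = 16 := by
    rw [Nat.card_congr (subgroupOfEquivOfLe hEK).toEquiv, card_E h]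
  have hcardVK : Nat.card VK = 4 := by
    rw [Nat.card_congr (subgroupOfEquivOfLe ((V_le_E h).trans hEK)).toEquiv, card_V h hfN hf]
  -- the index of `E` in `K` is odd
  have hodd : Odd EK.index := by
    let p : G → Prop := fun x => IsConj z x ∧ x * u = u * x
    let _ : MulAction K {x : G // p x} := conjActS K p (by
      intro n hn e he
      refine ⟨isConj_conj he.1 n, ?_⟩
      have h1 : n * u * n⁻¹ = u := by rw [mem_C.mp hn]; group
      have h2 := conj_comm_iff (g := n) (x := e) (y := u) |>.mpr he.2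
      rwa [h1] at h2)
    let z0 : {x : G // p x} := ⟨z, IsConj.refl z, h.comm⟩
    have : MulAction.IsPretransitive K {x : G // p x} := by
      have htrans : ∀ x : {x : G // p x}, ∃ n : K, n • z0 = x := by
        intro x
        obtain ⟨g, h1, h2⟩ := trans h x.2.1 x.2.2
        exact ⟨⟨g, mem_C.mpr h1⟩, Subtype.ext h2⟩
      constructor
      intro x y
      obtain ⟨n, hn⟩ := htrans x
      obtain ⟨m, hm⟩ := htrans y
      exact ⟨m * n⁻¹, by rw [← hn, mul_smul, inv_smul_smul, hm]⟩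
    have h3 : (MulAction.stabilizer K z0).index = Nat.card {x : G // p x} :=
      MulAction.index_stabilizer_of_transitive K z0
    have h4 : MulAction.stabilizer K z0 = EK := by
      ext n
      rw [MulAction.mem_stabilizer_iff, mem_subgroupOf]
      constructor
      · intro hn
        have h5 : (n : G) * z * (n : G)⁻¹ = z := congrArg Subtype.val hn
        exact mem_E.mpr ⟨mul_inv_eq_iff_eq_mul.mp h5, mem_C.mp n.2⟩
      · intro hn
        apply Subtype.ext
        change (n : G) * z * (n : G)⁻¹ = z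
        rw [(mem_E.mp hn).1]; group
    have hp : IsPGroup 2 EK := by
      rw [IsPGroup.iff_card, hcardEK]
      exact ⟨4, by norm_num⟩
    have : Fact (Nat.Prime 2) := ⟨Nat.prime_two⟩
    have h5 := hp.card_modEq_card_fixedPoints {x : G // p x}
    have h6 : Nat.card (MulAction.fixedPoints EK {x : G // p x}) = 3 := by
      rw [← h.card3]
      refine Nat.card_congr ⟨fun x => ⟨x.1, x.1.2.1, ?_, x.1.2.2⟩,
        fun x => ⟨⟨x, x.2.1, x.2.2.2⟩, ?_⟩, ?_, ?_⟩
      · have h7 := x.2 ⟨⟨z, mem_C.mpr h.comm⟩, mem_subgroupOf.mpr (z_mem_E h)⟩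
        have h8 : z * (x.1 : G) * z⁻¹ = x.1 := congrArg Subtype.val h7
        exact (mul_inv_eq_iff_eq_mul.mp h8).symm
      · rintro ⟨⟨n, hn⟩, hn'⟩
        apply Subtype.ext
        change n * (x : G) * n⁻¹ = x
        have h9 : n ∈ E z u := mem_subgroupOf.mp hn'
        have h10 : (x : G) ∈ E z u := mem_E.mpr x.2.2
        rw [comm_E h h9 h10]; group
      · intro x; rfl
      · intro x; rfl
    rw [h6, ← h3, h4] at h5
    have h11 : EK.index % 2 = 3 % 2 := h5
    exact Nat.odd_iff.mpr (by omega)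
  have hEK2 : ∀ x ∈ EK, x * x = 1 := fun x hx => Subtype.ext (sq_E h (mem_subgroupOf.mp hx))
  have hfK : f ∈ K := mem_C.mpr (N_comm h hfN)
  -- no fusion on `V`
  have hVfus : ∀ v ∈ VK, ∀ g : K, g⁻¹ * v * g ∈ EK → g⁻¹ * v * g = v := by
    intro v hv g hg
    have : Fact (Nat.Prime 2) := ⟨Nat.prime_two⟩
    have hp : IsPGroup 2 EK := by
      rw [IsPGroup.iff_card, hcardEK]
      exact ⟨4, by norm_num⟩
    have hEi : ¬ 2 ∣ EK.index := fun h => (Nat.not_even_iff_odd.mpr hodd) (even_iff_two_dvd.mpr h)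
    have hvE : v ∈ EK := mem_subgroupOf.mpr (V_le_E h (mem_subgroupOf.mp hv))
    have : IsMulCommutative (hp.toSylow hEi) :=
      ⟨⟨fun a b => Subtype.ext (Subtype.ext (comm_E h (mem_subgroupOf.mp a.2) (mem_subgroupOf.mp b.2)))⟩⟩
    obtain ⟨n, hn, hn'⟩ := (hp.toSylow hEi).conj_eq_normalizer_conj_of_mem v g hvE hg
    rw [hn']
    have hnN : (n : G) ∈ N h := by
      apply mem_N h (mem_C.mp n.2)
      have h1 := (mem_normalizer_iff.mp hn ⟨z, mem_C.mpr h.comm⟩).mp (mem_subgroupOf.mpr (z_mem_E h))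
      exact mem_subgroupOf.mp h1
    have h2 := N_comm_V h hfN hf hnN (mem_subgroupOf.mp hv)
    apply Subtype.ext
    change (n : G)⁻¹ * v * n = v
    rw [mul_assoc, ← h2]; group
  have hUnorm : ∀ x ∈ UK, ∃ g k : K, x = (g * x * g⁻¹) * (k * x * k⁻¹) := by
    intro x hx
    refine ⟨⟨f, hfK⟩, ⟨f, hfK⟩ ^ 2, Subtype.ext ?_⟩
    exact norm_U h hfN hf (mem_subgroupOf.mp hx)
  have hEUV : ∀ e ∈ EK, ∃ a ∈ UK, ∃ b ∈ VK, e = a * b := by
    intro e he
    obtain ⟨a, ha, b, hb, hab⟩ := exists_mul h hfN hf (mem_subgroupOf.mp he)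
    exact ⟨⟨a, hEK (U_le h ha)⟩, mem_subgroupOf.mpr ha, ⟨b, hEK (V_le_E h hb)⟩,
      mem_subgroupOf.mpr hb, Subtype.ext hab⟩
  obtain ⟨K0, hK0n, hK0E, hK0i, hK03, hK02⟩ := TransferAb.exists_normal EK VK UK hEK2 hodd
    (fun x hx => mem_subgroupOf.mpr (V_le_E h (mem_subgroupOf.mp hx))) hVfus hUnorm hEUV
  -- push everything to G
  have hmem : ∀ x (hx : x ∈ K), x ∈ K0.map K.subtype ↔ (⟨x, hx⟩ : K) ∈ K0 := by
    intro x hx
    constructor
    · rintro ⟨y, hy, rfl⟩
      exact hy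
    · intro hy
      exact ⟨_, hy, rfl⟩
  have hle : K0.map K.subtype ≤ K := by
    rintro _ ⟨y, _, rfl⟩
    exact y.2
  have hcard0 : Nat.card (K0.map K.subtype) = Nat.card K0 :=
    Nat.card_congr (K0.equivMapOfInjective _ K.subtype_injective).toEquiv.symm
  have hcap : ∀ x, x ∈ K0.map K.subtype → x * z = z * x → x ∈ U h := by
    intro x hx hxz
    have hxK := hle hx
    have h1 : (⟨x, hxK⟩ : K) ∈ EK := mem_subgroupOf.mpr (mem_E.mpr ⟨hxz, mem_C.mp hxK⟩)
    exact mem_subgroupOf.mp ((hK0E _ h1).mp ((hmem x hxK).mp hx))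
  have hUle : U h ≤ K0.map K.subtype := by
    intro x hx
    have hxK := hEK (U_le h hx)
    exact (hmem x hxK).mpr ((hK0E _ (mem_subgroupOf.mpr (U_le h hx))).mpr (mem_subgroupOf.mpr hx))
  have hconj : ∀ g ∈ K, ∀ x ∈ K0.map K.subtype, g * x * g⁻¹ ∈ K0.map K.subtype := by
    intro g hg x hx
    have hxK := hle hx
    exact (hmem _ (K.mul_mem (K.mul_mem hg hxK) (K.inv_mem hg))).mpr
      (hK0n.conj_mem _ ((hmem x hxK).mp hx) ⟨g, hg⟩)
  have hconj' : ∀ g ∈ K, ∀ x, x ∈ K0.map K.subtype ↔ g * x * g⁻¹ ∈ K0.map K.subtype := by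
    intro g hg x
    refine ⟨hconj g hg x, fun hx => ?_⟩
    have := hconj g⁻¹ (K.inv_mem hg) _ hx
    have h1 : g⁻¹ * (g * x * g⁻¹) * g⁻¹⁻¹ = x := by group
    rwa [h1] at this
  have hinvol : ∀ x ∈ K0.map K.subtype, orderOf x = 2 → IsConj z x := by
    intro x hx hx2
    have hxK := hle hx
    have : Fact (Nat.Prime 2) := ⟨Nat.prime_two⟩
    have hp : IsPGroup 2 EK := by
      rw [IsPGroup.iff_card, hcardEK]
      exact ⟨4, by norm_num⟩
    have hEi : ¬ 2 ∣ EK.index := fun h => (Nat.not_even_iff_odd.mpr hodd) (even_iff_two_dvd.mpr h)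
    have hpx : IsPGroup 2 (zpowers (⟨x, hxK⟩ : K)) := by
      rw [IsPGroup.iff_card, Nat.card_zpowers, ← Subgroup.orderOf_coe]
      exact ⟨1, by rw [pow_one]; exact hx2⟩
    obtain ⟨R, hR⟩ := hpx.exists_le_sylow
    obtain ⟨g, hg⟩ := MulAction.exists_smul_eq K R (hp.toSylow hEi)
    have h1 : g * ⟨x, hxK⟩ * g⁻¹ ∈ EK := by
      have h3 : g * ⟨x, hxK⟩ * g⁻¹ ∈ (g • R : Sylow 2 K) :=
        Subgroup.smul_mem_pointwise_smul _ (MulAut.conj g) _ (hR (mem_zpowers _))
      rw [hg] at h3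
      exact h3
    have h2 : g * ⟨x, hxK⟩ * g⁻¹ ∈ UK :=
      (hK0E _ h1).mp (hK0n.conj_mem _ ((hmem x hxK).mp hx) g)
    rcases mem_subgroupOf.mp h2 with h3 | ⟨h3, _⟩
    · exfalso
      have h4 : (g : G) * x * (g : G)⁻¹ = 1 := h3
      rw [conj_eq_one_iff] at h4
      rw [h4, orderOf_one] at hx2
      omega
    · have h4 : IsConj z ((g : G) * x * (g : G)⁻¹) := h3
      exact h4.trans (isConj_iff.mpr ⟨(g : G)⁻¹, by group⟩)
  refine ⟨K0.map K.subtype, ?_, hf, ?_, z_mem_U h, u_mem_V h hfN, card_U h, card_V h hfN hf,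
    hUle, ?_, ?_, ?_, hcap, ?_, ?_⟩
  · refine ⟨hle, ?_, hconj, ?_, ?_, hinvol, ?_, ?_⟩
    · have h1 := card_mul_index K0
      rw [hK0i, hcardVK] at h1
      rw [hcard0]
      change Nat.card K = _
      omega
    · intro k hk
      exact (hmem _ (K.mul_mem hk hk)).mpr (hK02 ⟨k, hk⟩)
    · intro hu
      exact u_notMem_U h (hcap u hu h.comm.symm)
    · intro x hx hxu
      obtain ⟨g, h1, h2⟩ := trans h hx hxu
      rw [← h2]
      exact hconj g (mem_C.mpr h1) z (hUle (z_mem_U h))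
    · intro x hx hx2
      obtain ⟨g, h1, h2⟩ := trans h (hinvol x hx hx2) (mem_C.mp (hle hx))
      have hgK : g ∈ K := mem_C.mpr h1
      have h3 : (K0.map K.subtype ⊓ centralizer ({z} : Set G) : Subgroup G) = U h := by
        ext y
        rw [mem_inf, mem_C]
        constructor
        · rintro ⟨h4, h5⟩; exact hcap y h4 h5
        · intro hy; exact ⟨hUle hy, (mem_E.mp (U_le h hy)).1⟩
      constructor
      · rw [← h2, card_eq_of_conj _ (hconj' g hgK), h3, card_U h]
      · intro y hy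
        rw [← h2] at hy
        have h4 := mem_inf.mp hy
        have h5 : g⁻¹ * y * g ∈ U h := by
          rw [← h3, mem_inf]
          have h6 : g * (g⁻¹ * y * g) * g⁻¹ = y := by group
          refine ⟨?_, ?_⟩
          · rw [hconj' g hgK, h6]; exact h4.1
          · rw [mem_C, ← conj_comm_iff (g := g), h6]; exact mem_C.mp h4.2
        have h7 := sq_E h (U_le h h5)
        have h8 : y * y = g * ((g⁻¹ * y * g) * (g⁻¹ * y * g)) * g⁻¹ := by group
        rw [h8, h7]; group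
  · exact (hmem f hfK).mpr (hK03 _ (Subtype.ext (f_cube hf)))
  · intro x
    rw [mem_U h, mem_E]
  · intro x
    rw [mem_V h, mem_E, and_assoc]
  · intro x h1 h2
    exact exists_mul h hfN hf (mem_E.mpr ⟨h1, h2⟩)
  · rintro x (rfl | ⟨h1, h2⟩)
    · left; group
    · right; exact ⟨isConj_conj h1 f, N_conj h hfN h2⟩
  · intro x hx hx1
    rcases hx with h0 | ⟨h1, h2⟩
    · exact absurd h0 hx1
    · exact f_not_comm h hfN hf h1 h2

end

/-- Main theorem: all the data about `C(u)`. -/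
theorem main [Finite G] (h : Fus z u) :
    ∃ (f : G) (U V H0 : Subgroup G), Full z u f U V H0 := by
  obtain ⟨f, hfN, hf⟩ := exists_f h
  obtain ⟨H0, hH⟩ := exists_full h hfN hf
  exact ⟨f, _, _, H0, hH⟩

theorem exists_hstr [Finite G] (h : Fus z u) : ∃ H0, HStr z u H0 := by
  obtain ⟨_, _, _, H0, hH⟩ := main h
  exact ⟨H0, hH.str⟩

end Cfsg.Agent.J2Type.CentU
end
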