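import Mathlib
import Cfsg.Agent.J2Type.FourSelfCent
import Cfsg.Agent.J2Type.SylowSeven
set_option linter.all false

/-!
Centralisers of elements of odd prime order with a "self-centralising" four-group: let `w` have odd prime
order `p` and let `V` be a four-group in `C(w)` with `C(v) ∩ C(w) = V ⟨w⟩` for each involution `v` of `V`.
Then `C(w)/⟨w⟩` satisfies `FourSelfCent.Hyp`.
-/

set_option autoImplicit false
set_option linter.style.haveILetI false

namespace Cfsg.Agent.J2Type.CentQuot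

open Subgroup Cfsg.Agent.J2Type.FourSelfCent Cfsg.Agent.J2Type.SylowSeven

variable {G : Type*} [Group G]

/-- The subgroup generated by `w` inside its centraliser. -/
def cyc (w : G) : Subgroup (centralizer ({w} : Set G)) :=
  (zpowers w).subgroupOf (centralizer ({w} : Set G))

theorem mem_cyc {w : G} {x : centralizer ({w} : Set G)} : x ∈ cyc w ↔ (x : G) ∈ zpowers w :=
  mem_subgroupOf

theorem zpowers_le_centralizer (w : G) : zpowers w ≤ centralizer ({w} : Set G) := by
  rw [zpowers_le, mem_centralizer_singleton_iff]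

instance cyc_normal (w : G) : (cyc w).Normal := by
  constructor
  intro n hn g
  rw [mem_cyc] at *
  obtain ⟨k, hk⟩ := mem_zpowers_iff.mp hn
  have hg : (g : G) * w = w * g := mem_centralizer_singleton_iff.mp g.2
  have hcomm : Commute (g : G) (w ^ k) := (show Commute (g : G) w from hg).zpow_right k
  have : ((g * n * g⁻¹ : centralizer ({w} : Set G)) : G) = n := by
    rw [coe_mul, coe_mul, coe_inv, ← hk, hcomm.eq, mul_inv_cancel_right]
  rw [this]; exact hn

theorem card_cyc (w : G) : Nat.card (cyc w) = orderOf w := by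
  rw [← Nat.card_zpowers]
  exact Nat.card_congr (subgroupOfEquivOfLe (zpowers_le_centralizer w)).toEquiv

/-- `C(w)/⟨w⟩`. -/
abbrev CQ (w : G) : Type _ := centralizer ({w} : Set G) ⧸ cyc w

theorem card_centralizer_eq [Finite G] (w : G) :
    Nat.card (centralizer ({w} : Set G)) = Nat.card (CQ w) * orderOf w := by
  rw [← card_cyc w]
  exact Subgroup.card_eq_card_quotient_mul_card_subgroup (cyc w)

/-- The image in `C(w)/⟨w⟩` of a subgroup `V`. -/
def im (w : G) (V : Subgroup G) : Subgroup (CQ w) :=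
  (V.subgroupOf (centralizer ({w} : Set G))).map (QuotientGroup.mk' (cyc w))

theorem mem_im {w : G} {V : Subgroup G} {x : CQ w} :
    x ∈ im w V ↔ ∃ v : centralizer ({w} : Set G), (v : G) ∈ V ∧ (v : CQ w) = x := by
  unfold im
  rw [mem_map]
  constructor
  · rintro ⟨v, hv, rfl⟩
    exact ⟨v, mem_subgroupOf.mp hv, rfl⟩
  · rintro ⟨v, hv, rfl⟩
    exact ⟨v, mem_subgroupOf.mpr hv, rfl⟩

theorem mk_eq_one {w : G} (v : centralizer ({w} : Set G)) : (v : CQ w) = 1 ↔ (v : G) ∈ zpowers w := by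
  rw [QuotientGroup.eq_one_iff, mem_cyc]

theorem eq_one_of_sq_of_mem_zpowers {w : G} {p : ℕ} (hp2 : Odd p) (hw : orderOf w = p) {x : G}
    (hx : x * x = 1) (hxw : x ∈ zpowers w) : x = 1 := by
  have h1 : orderOf x ∣ 2 := orderOf_dvd_of_pow_eq_one (by rw [pow_two]; exact hx)
  have h2 : orderOf x ∣ p := by
    rw [← hw]; exact orderOf_dvd_of_mem_zpowers hxw
  have h3 : orderOf x ∣ Nat.gcd 2 p := Nat.dvd_gcd h1 h2
  rw [Nat.Coprime.gcd_eq_one (Nat.coprime_two_left.mpr hp2)] at h3
  exact orderOf_eq_one_iff.mp (Nat.dvd_one.mp h3)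

theorem hyp_im [Finite G] {w : G} {p : ℕ} (hp2 : Odd p) (hw : orderOf w = p) {V : Subgroup G}
    (hV : Nat.card V = 4) (hsq : ∀ v ∈ V, v * v = 1) (hVw : ∀ v ∈ V, v * w = w * v)
    (hcent : ∀ v ∈ V, v ≠ 1 → ∀ x, x * v = v * x → x * w = w * x → ∃ y ∈ V, ∃ k : ℤ, x = y * w ^ k) :
    Hyp (im w V) := by
  have hle : V ≤ centralizer ({w} : Set G) := by
    intro v hv
    rw [mem_centralizer_singleton_iff]
    exact hVw v hv
  refine ⟨?_, ?_, ?_⟩
  · have hinj : Function.Injective
        ((QuotientGroup.mk' (cyc w)).comp (V.subgroupOf (centralizer ({w} : Set G))).subtype) := by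
      rw [injective_iff_map_eq_one]
      rintro ⟨⟨v, hvC⟩, hv⟩ h
      have h1 : v ∈ zpowers w := (mk_eq_one (⟨v, hvC⟩ : centralizer ({w} : Set G))).mp h
      have h2 : v = 1 := eq_one_of_sq_of_mem_zpowers hp2 hw (hsq v (mem_subgroupOf.mp hv)) h1
      subst h2; rfl
    have : im w V = ((QuotientGroup.mk' (cyc w)).comp
        (V.subgroupOf (centralizer ({w} : Set G))).subtype).range := by
      rw [MonoidHom.range_comp, Subgroup.range_subtype]; rfl
    rw [this, ← Nat.card_congr (MonoidHom.ofInjective hinj).toEquiv,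
      Nat.card_congr (subgroupOfEquivOfLe hle).toEquiv, hV]
  · intro u hu
    obtain ⟨v, hv, rfl⟩ := mem_im.mp hu
    rw [← QuotientGroup.mk_mul]
    have : v * v = 1 := Subtype.ext (hsq v hv)
    rw [this]; rfl
  · intro u hu hu1 x hx
    obtain ⟨v, hv, rfl⟩ := mem_im.mp hu
    obtain ⟨x, rfl⟩ := QuotientGroup.mk_surjective x
    rw [← QuotientGroup.mk_mul, ← QuotientGroup.mk_mul, QuotientGroup.eq, mem_cyc] at hx
    have hxw : (x : G) * w = w * x := mem_centralizer_singleton_iff.mp x.2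
    have hv1 : (v : G) ≠ 1 := by
      intro h
      apply hu1
      rw [show v = 1 from Subtype.ext h]; rfl
    -- `(x v)⁻¹ (v x)` is a power of `w`
    obtain ⟨k, hk⟩ := mem_zpowers_iff.mp hx
    have hk' : w ^ k = ((x : G) * v)⁻¹ * (v * x) := by simpa using hk
    have hcx : Commute (x : G) (w ^ k) := (show Commute (x : G) w from hxw).zpow_right k
    have hcv : Commute (v : G) (w ^ k) := (show Commute (v : G) w from hVw v hv).zpow_right k
    have e1 : (v : G) * x = x * v * w ^ k := by rw [hk']; group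
    -- x⁻¹ v x = v w^k
    have e2 : (x : G)⁻¹ * v * x = v * w ^ k := by
      rw [mul_assoc, e1]; group
    have e3 : (w ^ k) * (w ^ k) = 1 := by
      have h1 : ((x : G)⁻¹ * v * x) * ((x : G)⁻¹ * v * x) = 1 := by
        have : ((x : G)⁻¹ * v * x) * ((x : G)⁻¹ * v * x) = (x : G)⁻¹ * (v * v) * x := by group
        rw [this, hsq v hv]; group
      rw [e2] at h1
      calc (w ^ k) * (w ^ k) = (v * v) * ((w ^ k) * (w ^ k)) := by rw [hsq v hv, one_mul]
        _ = (v * w ^ k) * (v * w ^ k) := by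
            rw [mul_assoc, mul_assoc, ← mul_assoc (w ^ k) (v : G), ← hcv.eq, mul_assoc]
        _ = 1 := h1
    have e4 : w ^ k = 1 := eq_one_of_sq_of_mem_zpowers hp2 hw e3 (zpow_mem_zpowers w k)
    rw [e4, mul_one] at e1
    obtain ⟨y, hy, j, hxy⟩ := hcent v hv hv1 x e1.symm hxw
    rw [mem_im]
    refine ⟨⟨y, hle hy⟩, hy, ?_⟩
    rw [QuotientGroup.eq, mem_cyc]
    have : (((⟨y, hle hy⟩ : centralizer ({w} : Set G))⁻¹ * x : centralizer ({w} : Set G)) : G) = w ^ j := by
      simp only [coe_mul, coe_inv]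
      rw [hxy]; group
    rw [this]
    exact zpow_mem_zpowers w j

/-- The three possible orders of `C(w)`. -/
theorem card_centralizer_cases [Finite G] {w : G} {p : ℕ} (hp2 : Odd p) (hw : orderOf w = p) {V : Subgroup G}
    (hV : Nat.card V = 4) (hsq : ∀ v ∈ V, v * v = 1) (hVw : ∀ v ∈ V, v * w = w * v)
    (hcent : ∀ v ∈ V, v ≠ 1 → ∀ x, x * v = v * x → x * w = w * x → ∃ y ∈ V, ∃ k : ℤ, x = y * w ^ k) :
    Nat.card (centralizer ({w} : Set G)) = 4 * p ∨ Nat.card (centralizer ({w} : Set G)) = 12 * p ∨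
      Nat.card (centralizer ({w} : Set G)) = 60 * p := by
  have h := (hyp_im hp2 hw hV hsq hVw hcent).card_cases
  rw [card_centralizer_eq, hw]
  rcases h with h | h | h <;> rw [h] <;> simp

end Cfsg.Agent.J2Type.CentQuot
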