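import Mathlib
import Cfsg.Agent.J2Type.CentU
import Cfsg.Agent.J2Type.SylowFive
set_option linter.all false

/-!
The group `C(u) = V × H0` for a group of Hall-Janko type with `|H0| = 60`, and the centralisers of the elements of
order 5 of `H0`.
-/

set_option autoImplicit false
set_option linter.style.haveILetI false

namespace Cfsg.Agent.J2Type.Cent5

open Subgroup Cfsg.Agent.J2Type.Base Cfsg.Agent.J2Type.HStr Cfsg.Agent.J2Type.CentU
  Cfsg.Agent.J2Type.FourSelfCent Cfsg.Agent.J2Type.SylowSeven Cfsg.Agent.J2Type.CentQuot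
  Cfsg.Agent.J2Type.A5Facts

variable {G : Type*} [Group G] [Finite G] {z u f : G} {U V H0 : Subgroup G}

section basic

omit [Finite G] in
theorem sq_U (h : Fus z u) (F : Full z u f U V H0) {x : G} (hx : x ∈ U) : x * x = 1 := by
  rcases (F.memU x).mp hx with h1 | ⟨-, h2, h3⟩
  · rw [h1, mul_one]
  · exact h.sqE x h2 h3

omit [Finite G] in
theorem comm_U (h : Fus z u) (F : Full z u f U V H0) {x y : G} (hx : x ∈ U) (hy : y ∈ U) :
    x * y = y * x := by
  have h1 := sq_U h F (U.mul_mem hx hy)
  have h2 := sq_U h F hx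
  have h3 := sq_U h F hy
  have : x * y = (x * y)⁻¹ := eq_inv_of_mul_eq_one_left h1
  rw [this, mul_inv_rev, ← eq_inv_of_mul_eq_one_left h2, ← eq_inv_of_mul_eq_one_left h3]

omit [Finite G] in
theorem sq_V (h : Fus z u) (F : Full z u f U V H0) {x : G} (hx : x ∈ V) : x * x = 1 := by
  obtain ⟨h1, h2, -⟩ := (F.memV x).mp hx
  exact h.sqE x h1 h2

omit [Finite G] in
theorem inv_V (h : Fus z u) (F : Full z u f U V H0) {x : G} (hx : x ∈ V) : x⁻¹ = x :=
  (eq_inv_of_mul_eq_one_left (sq_V h F hx)).symm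

omit [Finite G] in
theorem comm_UV (h : Fus z u) (F : Full z u f U V H0) {x y : G} (hx : x ∈ U) (hy : y ∈ V) :
    x * y = y * x := by
  -- both in `E`, which has exponent 2
  have hxE : x * z = z * x ∧ x * u = u * x := by
    rcases (F.memU x).mp hx with h1 | ⟨-, h2, h3⟩
    · subst h1; simp
    · exact ⟨h2, h3⟩
  obtain ⟨h1, h2, -⟩ := (F.memV y).mp hy
  have h3 : (x * y) * (x * y) = 1 := h.sqE (x * y)
    (by rw [mul_assoc, h1, ← mul_assoc, hxE.1, mul_assoc]) (by rw [mul_assoc, h2, ← mul_assoc, hxE.2, mul_assoc])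
  have h4 := sq_U h F hx
  have h5 := sq_V h F hy
  have : x * y = (x * y)⁻¹ := eq_inv_of_mul_eq_one_left h3
  rw [this, mul_inv_rev, ← eq_inv_of_mul_eq_one_left h4, ← eq_inv_of_mul_eq_one_left h5]

omit [Finite G] in
theorem V_le (F : Full z u f U V H0) : V ≤ centralizer ({u} : Set G) := by
  intro x hx
  rw [mem_centralizer_singleton_iff]
  exact ((F.memV x).mp hx).2.1

omit [Finite G] in
theorem V_inf_H0 (F : Full z u f U V H0) {x : G} (hx : x ∈ V) (hx0 : x ∈ H0) : x = 1 := by
  obtain ⟨h1, h2, h3⟩ := (F.memV x).mp hx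
  by_contra hne
  exact F.f_ne x (F.cap x hx0 h1) hne h3.symm

theorem hyp_H0 (h : Fus z u) (F : Full z u f U V H0) : Hyp (U.subgroupOf H0) := by
  refine ⟨?_, ?_, ?_⟩
  · rw [Nat.card_congr (subgroupOfEquivOfLe F.U_le).toEquiv, F.cardU]
  · intro x hx
    exact Subtype.ext (sq_U h F (mem_subgroupOf.mp hx))
  · intro v hv hv1 x hx
    rw [mem_subgroupOf] at hv ⊢
    have hv2 : orderOf (v : G) = 2 := by
      apply orderOf_eq_prime
      · rw [pow_two]; exact sq_U h F hv
      · intro h1; exact hv1 (Subtype.ext h1)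
    obtain ⟨h4, -⟩ := F.str.cent4 v v.2 hv2
    have hle : U ≤ H0 ⊓ centralizer ({(v : G)} : Set G) := by
      intro y hy
      rw [mem_inf, mem_centralizer_singleton_iff]
      exact ⟨F.U_le hy, comm_U h F hy hv⟩
    have heq : U = H0 ⊓ centralizer ({(v : G)} : Set G) := eq_of_le_of_card_ge hle (by rw [h4, F.cardU])
    rw [heq, mem_inf, mem_centralizer_singleton_iff]
    exact ⟨x.2, congrArg Subtype.val hx⟩

end basic

section sixty

theorem exists_equiv (h : Fus z u) (F : Full z u f U V H0) (h60 : Nat.card H0 = 60) :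
    Nonempty (H0 ≃* alternatingGroup (Fin 5)) := (hyp_H0 h F).equiv_of_card_60 h60

theorem comm3 : ∀ g x : alternatingGroup (Fin 5), g ^ 3 = 1 → g ≠ 1 → x * g = g * x →
    (x = 1 ∨ x = g ∨ x = g ^ 2) := by
  decide +kernel

/-- elements of order 3 of `H0` are self-centralising in `H0` -/
theorem mem_zpowers_of_comm3 {K : Type*} [Group K] (e : K ≃* alternatingGroup (Fin 5)) {g x : K}
    (hg : orderOf g = 3) (hx : x * g = g * x) : x = 1 ∨ x = g ∨ x = g ^ 2 := by
  have hg' : orderOf (e g) = 3 := by rw [MulEquiv.orderOf_eq]; exact hg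
  have h1 : (e g) ^ 3 = 1 := orderOf_dvd_iff_pow_eq_one.mp hg'.dvd
  have h2 : e g ≠ 1 := by
    intro h; rw [h, orderOf_one] at hg'; norm_num at hg'
  rcases comm3 (e g) (e x) h1 h2 (by rw [← map_mul, hx, map_mul]) with h | h | h
  · left; exact e.injective (by rw [h, map_one])
  · right; left; exact e.injective h
  · right; right; exact e.injective (by rw [h, map_pow])

theorem V_comm (h : Fus z u) (F : Full z u f U V H0) (h60 : Nat.card H0 = 60) {v x : G} (hv : v ∈ V)
    (hx : x ∈ H0) : v * x = x * v := by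
  classical
  obtain ⟨e⟩ := exists_equiv h F h60
  have hvv := sq_V h F hv
  have hvi := inv_V h F hv
  -- the centraliser of `v` in `H0`
  set A : Subgroup G := H0 ⊓ centralizer ({v} : Set G) with hA
  have hAle : A ≤ H0 := inf_le_left
  have hUA : U ≤ A := by
    intro y hy
    rw [hA, mem_inf, mem_centralizer_singleton_iff]
    exact ⟨F.U_le hy, comm_UV h F hy hv⟩
  have hfA : f ∈ A := by
    rw [hA, mem_inf, mem_centralizer_singleton_iff]
    exact ⟨F.f_mem, ((F.memV v).mp hv).2.2.symm⟩
  have h4 : 4 ∣ Nat.card A := by rw [← F.cardU]; exact card_dvd_of_le hUA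
  have h3 : 3 ∣ Nat.card A := by
    rw [← F.f_ord, ← Nat.card_zpowers]
    exact card_dvd_of_le (zpowers_le.mpr hfA)
  have h12 : 12 ∣ Nat.card A := by
    have : Nat.lcm 4 3 ∣ Nat.card A := Nat.lcm_dvd h4 h3
    exact this
  have hA60 : Nat.card A ∣ 60 := by rw [← h60]; exact card_dvd_of_le hAle
  by_contra hcon
  have hxA : x ∉ A := by
    intro hxA
    rw [hA, mem_inf, mem_centralizer_singleton_iff] at hxA
    exact hcon hxA.2.symm
  have hA12 : Nat.card A = 12 := by
    obtain ⟨k, hk⟩ := h12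
    have h1 : Nat.card A ≠ 60 := by
      intro h1
      apply hxA
      have : A = H0 := eq_of_le_of_card_ge hAle (by rw [h1, h60])
      rw [this]; exact hx
    rw [hk] at hA60 h1 ⊢
    have h2 : k ∣ 5 := by
      rw [show 60 = 12 * 5 by norm_num] at hA60
      exact Nat.dvd_of_mul_dvd_mul_left (by norm_num) hA60
    rcases (Nat.dvd_prime (by norm_num)).mp h2 with rfl | rfl
    · norm_num
    · exact absurd (by norm_num) h1
  -- `A` normalises `U`
  have hAU : ∀ a ∈ A, ∀ t, t ∈ U ↔ a * t * a⁻¹ ∈ U := by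
    have h1 : A ≤ normalizer (U : Set G) := by
      have h2 : A ⊓ normalizer (U : Set G) = A := by
        refine eq_of_le_of_card_ge inf_le_left ?_
        rw [hA12]
        have hf : f ∈ A ⊓ normalizer (U : Set G) := by
          rw [mem_inf]
          refine ⟨hfA, ?_⟩
          have hmap : U.map (MulAut.conj f).toMonoidHom = U := by
            refine eq_of_le_of_card_ge ?_ ?_
            · rintro _ ⟨t, ht, rfl⟩
              exact F.fU t ht
            · rw [Subgroup.card_map_of_injective (MulAut.conj f).injective]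
          rw [mem_normalizer_iff]
          intro t
          constructor
          · exact fun ht => F.fU t ht
          · intro ht
            rw [← hmap] at ht
            obtain ⟨t', ht', h'⟩ := ht
            have : t' = t := (MulAut.conj f).injective h'
            rw [← this]; exact ht'
        have h4' : 4 ∣ Nat.card (A ⊓ normalizer (U : Set G) : Subgroup G) := by
          rw [← F.cardU]; exact card_dvd_of_le (le_inf hUA le_normalizer)
        have h3' : 3 ∣ Nat.card (A ⊓ normalizer (U : Set G) : Subgroup G) := by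
          rw [← F.f_ord, ← Nat.card_zpowers]
          exact card_dvd_of_le (zpowers_le.mpr hf)
        have h12' : Nat.lcm 4 3 ∣ Nat.card (A ⊓ normalizer (U : Set G) : Subgroup G) := Nat.lcm_dvd h4' h3'
        exact Nat.le_of_dvd Nat.card_pos h12'
      rw [← h2]; exact inf_le_right
    intro a ha t
    exact mem_normalizer_iff.mp (h1 ha) t
  -- cubes of elements of `A` lie in `U`
  have hcube : ∀ a ∈ A, a ^ 3 ∈ U := by
    intro a ha
    haveI : (U.subgroupOf A).Normal := by
      constructor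
      intro t ht b
      rw [mem_subgroupOf] at ht ⊢
      exact (hAU b b.2 t).mp ht
    have h1 : (U.subgroupOf A).index = 3 := by
      have h2 := card_mul_index (U.subgroupOf A)
      rw [Nat.card_congr (subgroupOfEquivOfLe hUA).toEquiv, F.cardU, hA12] at h2
      omega
    have h3 := pow_index_mem (H := U.subgroupOf A) ⟨a, ha⟩
    rw [h1, mem_subgroupOf] at h3
    exact h3
  -- the normaliser of `U` in `H0` is `A`
  have hNU : ∀ y ∈ H0, (∀ t, t ∈ U ↔ y * t * y⁻¹ ∈ U) → y ∈ A := by
    intro y hy hyU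
    have h1 := (hyp_H0 h F).card_normalizer_of_sixty h60
    -- `A` is contained in the normaliser
    have hle : A.subgroupOf H0 ≤ normalizer ((U.subgroupOf H0 : Subgroup H0) : Set H0) := by
      intro a ha
      rw [mem_subgroupOf] at ha
      rw [mem_normalizer_iff]
      intro t
      rw [mem_subgroupOf, mem_subgroupOf]
      exact hAU a ha t
    have heq : A.subgroupOf H0 = normalizer ((U.subgroupOf H0 : Subgroup H0) : Set H0) := by
      refine eq_of_le_of_card_ge hle ?_
      rw [h1, Nat.card_congr (subgroupOfEquivOfLe hAle).toEquiv, hA12]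
    have h2 : (⟨y, hy⟩ : H0) ∈ normalizer ((U.subgroupOf H0 : Subgroup H0) : Set H0) := by
      rw [mem_normalizer_iff]
      intro t
      rw [mem_subgroupOf, mem_subgroupOf]
      exact hyU t
    rw [← heq, mem_subgroupOf] at h2
    exact h2
  -- the intersection of `A` with its conjugate
  set Ax : Subgroup G := A.map (MulAut.conj x).toMonoidHom with hAx
  have hAxH : Ax ≤ H0 := by
    rintro _ ⟨a, ha, rfl⟩
    exact H0.mul_mem (H0.mul_mem hx (hAle ha)) (H0.inv_mem hx)
  have hAx12 : Nat.card Ax = 12 := by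
    rw [hAx, Subgroup.card_map_of_injective (MulAut.conj x).injective, hA12]
  have hmemAx : ∀ y ∈ Ax, x⁻¹ * y * x ∈ A := by
    rintro _ ⟨a, ha, rfl⟩
    have : x⁻¹ * ((MulAut.conj x).toMonoidHom a) * x = a := by
      show x⁻¹ * (x * a * x⁻¹) * x = a
      group
    rw [this]; exact ha
  have hD3 : 3 ≤ Nat.card (A ⊓ Ax : Subgroup G) := by
    have h1 : A.relIndex H0 = 5 := by
      have := card_mul_relIndex' hAle
      rw [hA12, h60] at this; omega
    have h2 : Ax.relIndex H0 = 5 := by
      have := card_mul_relIndex' hAxH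
      rw [hAx12, h60] at this; omega
    have h3 : (A ⊓ Ax).relIndex H0 ≤ 25 := by
      have := relIndex_inf_le (H := A) (K := Ax) (L := H0)
      rw [h1, h2] at this; exact this
    have h4 := card_mul_relIndex' (inf_le_left.trans hAle : A ⊓ Ax ≤ H0)
    rw [h60] at h4
    by_contra hlt
    push Not at hlt
    have h5 : Nat.card (A ⊓ Ax : Subgroup G) * (A ⊓ Ax).relIndex H0 ≤ 2 * 25 :=
      Nat.mul_le_mul (by omega) h3
    omega
  have hD12 : Nat.card (A ⊓ Ax : Subgroup G) ∣ 12 := by
    rw [← hA12]; exact card_dvd_of_le inf_le_left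
  -- the commutator
  set c : G := v * x * v * x⁻¹ with hc
  have hcH : c ∈ H0 := by
    have h1 : v * x * v⁻¹ ∈ H0 := F.str.conj_mem v (V_le F hv) x hx
    rw [hvi] at h1
    exact H0.mul_mem h1 (H0.inv_mem hx)
  have hcne : c ≠ 1 := by
    intro h1
    apply hcon
    have h2 : v * x * v = x := by
      have : v * x * v * x⁻¹ * x = x := by rw [← hc, h1, one_mul]
      simpa using this
    calc v * x = v * x * (v * v) := by rw [hvv, mul_one]
      _ = (v * x * v) * v := by group
      _ = x * v := by rw [h2]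
  have hcD : ∀ d ∈ A ⊓ Ax, c * d = d * c := by
    intro d hd
    rw [mem_inf] at hd
    have h1 : d * v = v * d := mem_centralizer_singleton_iff.mp (mem_inf.mp hd.1).2
    have h2 : (x⁻¹ * d * x) * v = v * (x⁻¹ * d * x) :=
      mem_centralizer_singleton_iff.mp (mem_inf.mp (hmemAx d hd.2)).2
    calc c * d = v * (x * (v * (x⁻¹ * d * x)) * x⁻¹) := by rw [hc]; group
      _ = v * (x * ((x⁻¹ * d * x) * v) * x⁻¹) := by rw [h2]
      _ = (v * d) * (x * v * x⁻¹) := by group
      _ = d * c := by rw [← h1, hc]; group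
  have hvc : v * c * v = c⁻¹ := by
    rw [hc]
    have h1 : (v * x * v * x⁻¹)⁻¹ = x * v⁻¹ * x⁻¹ * v⁻¹ := by group
    rw [h1, hvi]
    calc v * (v * x * v * x⁻¹) * v = (v * v) * (x * v * x⁻¹ * v) := by group
      _ = x * v * x⁻¹ * v := by rw [hvv, one_mul]
  by_cases h3D : 3 ∣ Nat.card (A ⊓ Ax : Subgroup G)
  · haveI : Fact (Nat.Prime 3) := ⟨by norm_num⟩
    obtain ⟨g, hg⟩ := exists_prime_orderOf_dvd_card' 3 h3D
    have hgD := g.2
    have hg3 : orderOf (g : G) = 3 := by rw [orderOf_coe]; exact hg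
    have hgA : (g : G) ∈ A := (mem_inf.mp hgD).1
    have hgv : (g : G) * v = v * g := mem_centralizer_singleton_iff.mp (mem_inf.mp hgA).2
    have hgH : orderOf (⟨(g : G), hAle hgA⟩ : H0) = 3 := by
      rw [← orderOf_coe]; exact hg3
    have h1 := mem_zpowers_of_comm3 e (g := (⟨(g : G), hAle hgA⟩ : H0)) (x := ⟨c, hcH⟩) hgH
      (Subtype.ext (hcD g hgD))
    have h2 : c = 1 ∨ c = g ∨ c = (g : G) ^ 2 := by
      rcases h1 with h | h | h
      · left; exact congrArg Subtype.val h
      · right; left; exact congrArg Subtype.val h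
      · right; right; exact congrArg Subtype.val h
    have hg33 : (g : G) ^ 3 = 1 := by rw [← hg3]; exact pow_orderOf_eq_one _
    have hcc : c ^ 3 = 1 := by
      rcases h2 with h | h | h
      · rw [h, one_pow]
      · rw [h, hg33]
      · rw [h, ← pow_mul, mul_comm, pow_mul, hg33, one_pow]
    have hvc' : v * c = c * v := by
      rcases h2 with h | h | h
      · rw [h]; group
      · rw [h]; exact hgv.symm
      · rw [h]; exact ((show Commute v (g : G) from hgv.symm).pow_right 2)
    have h5 : c = c⁻¹ := by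
      rw [← hvc, hvc', mul_assoc, hvv, mul_one]
    have h6 : c * c = 1 := by
      nth_rewrite 1 [h5]; group
    apply hcne
    calc c = c ^ 3 := by rw [pow_succ, pow_two, h6, one_mul]
      _ = 1 := hcc
  · -- `A ⊓ Ax` has order 4 and equals `U`
    have hD4 : Nat.card (A ⊓ Ax : Subgroup G) = 4 := by
      have h1 : Nat.card (A ⊓ Ax : Subgroup G) ∈ Nat.divisors 12 := Nat.mem_divisors.mpr ⟨hD12, by norm_num⟩
      have h2 : Nat.divisors 12 = {1, 2, 3, 4, 6, 12} := by decide +kernel
      rw [h2] at h1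
      simp only [Finset.mem_insert, Finset.mem_singleton] at h1
      rcases h1 with h | h | h | h | h | h
      · omega
      · omega
      · exact absurd (by rw [h]) h3D
      · exact h
      · exact absurd (by rw [h]; norm_num) h3D
      · exact absurd (by rw [h]; norm_num) h3D
    have hinU : ∀ a ∈ A, a ^ 4 = 1 → a ∈ U := by
      intro a ha ha4
      have h1 := hcube a ha
      have h2 : a = (a ^ 3)⁻¹ := by
        rw [eq_inv_iff_mul_eq_one, ← pow_succ']
        exact ha4
      rw [h2]; exact U.inv_mem h1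
    have hDU : (A ⊓ Ax : Subgroup G) = U := by
      refine eq_of_le_of_card_ge ?_ (by rw [hD4, F.cardU])
      intro d hd
      refine hinU d (mem_inf.mp hd).1 ?_
      have := pow_card_eq_one' (x := (⟨d, hd⟩ : (A ⊓ Ax : Subgroup G)))
      rw [hD4] at this
      exact congrArg Subtype.val this
    have hxU : ∀ t ∈ U, x⁻¹ * t * x ∈ U := by
      intro t ht
      have h1 : t ∈ A ⊓ Ax := by rw [hDU]; exact ht
      refine hinU _ (hmemAx t (mem_inf.mp h1).2) ?_
      have h2 : t ^ 4 = 1 := by
        have := sq_U h F ht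
        rw [show (4 : ℕ) = 2 + 2 from rfl, pow_add, pow_two, this, mul_one]
      have : (x⁻¹ * t * x) ^ 4 = x⁻¹ * t ^ 4 * x := by
        have h3 := conj_pow (a := x⁻¹) (b := t) (i := 4)
        simpa only [inv_inv] using h3
      rw [this, h2]; group
    have hmap : U.map (MulAut.conj x⁻¹).toMonoidHom = U := by
      refine eq_of_le_of_card_ge ?_ ?_
      · rintro _ ⟨t, ht, rfl⟩
        have := hxU t ht
        simpa using this
      · rw [Subgroup.card_map_of_injective (MulAut.conj x⁻¹).injective]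
    apply hxA
    apply hNU x hx
    intro t
    constructor
    · intro ht
      rw [← hmap] at ht
      obtain ⟨t', ht', h'⟩ := ht
      have : x * t * x⁻¹ = t' := by
        rw [← h']
        show x * (x⁻¹ * t' * (x⁻¹)⁻¹) * x⁻¹ = t'
        group
      rw [this]; exact ht'
    · intro ht
      have := hxU _ ht
      have h' : x⁻¹ * (x * t * x⁻¹) * x = t := by group
      rw [h'] at this; exact this

omit [Finite G] in
theorem comm_V (h : Fus z u) (F : Full z u f U V H0) {x y : G} (hx : x ∈ V) (hy : y ∈ V) :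
    x * y = y * x := by
  have h1 := sq_V h F (V.mul_mem hx hy)
  have h2 := sq_V h F hx
  have h3 := sq_V h F hy
  have : x * y = (x * y)⁻¹ := eq_inv_of_mul_eq_one_left h1
  rw [this, mul_inv_rev, ← eq_inv_of_mul_eq_one_left h2, ← eq_inv_of_mul_eq_one_left h3]

theorem exists_mul (F : Full z u f U V H0) {x : G} (hx : x ∈ centralizer ({u} : Set G)) :
    ∃ a ∈ V, ∃ b ∈ H0, x = a * b := by
  have hcard := F.str.card
  let g : V × H0 → centralizer ({u} : Set G) := fun p =>
    ⟨p.1 * p.2, (centralizer ({u} : Set G)).mul_mem (V_le F p.1.2) (F.str.le p.2.2)⟩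
  have hinj : Function.Injective g := by
    rintro ⟨a, b⟩ ⟨a', b'⟩ hab
    have h1 : (a : G) * b = a' * b' := congrArg Subtype.val hab
    have h2 : (a' : G)⁻¹ * a = b' * (b : G)⁻¹ := by
      calc (a' : G)⁻¹ * a = (a' : G)⁻¹ * (a * b) * (b : G)⁻¹ := by group
        _ = b' * (b : G)⁻¹ := by rw [h1]; group
    have h3 : (a' : G)⁻¹ * a = 1 :=
      V_inf_H0 F (V.mul_mem (V.inv_mem a'.2) a.2) (by rw [h2]; exact H0.mul_mem b'.2 (H0.inv_mem b.2))
    have h4 : (a : G) = a' := by
      calc (a : G) = a' * ((a' : G)⁻¹ * a) := by group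
        _ = a' := by rw [h3, mul_one]
    have h5 : (b : G) = b' := by
      rw [h4] at h1
      exact mul_left_cancel h1
    rw [Prod.mk.injEq]
    exact ⟨Subtype.ext h4, Subtype.ext h5⟩
  have hbij : Function.Bijective g := by
    rw [Nat.bijective_iff_injective_and_card]
    refine ⟨hinj, ?_⟩
    rw [Nat.card_prod, F.cardV, hcard]
  obtain ⟨⟨a, b⟩, hab⟩ := hbij.2 ⟨x, hx⟩
  exact ⟨a, a.2, b, b.2, (congrArg Subtype.val hab).symm⟩

omit [Finite G] in
theorem isConj_of_mem_V (h : Fus z u) (F : Full z u f U V H0) {v : G} (hv : v ∈ V) (hv1 : v ≠ 1) :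
    IsConj u v := by
  have h2 : orderOf v = 2 := orderOf_eq_prime (by rw [pow_two]; exact sq_V h F hv) hv1
  rcases h.cover v h2 with h3 | h3
  · exfalso
    exact hv1 (V_inf_H0 F hv (F.str.z_mem v h3 (mem_centralizer_singleton_iff.mp (V_le F hv))))
  · exact h3

omit [Finite G] in
theorem card_centralizer_of_isConj {x y : G} (hxy : IsConj x y) :
    Nat.card (centralizer ({x} : Set G)) = Nat.card (centralizer ({y} : Set G)) := by
  obtain ⟨c, rfl⟩ := isConj_iff.mp hxy
  refine Nat.card_congr ((MulAut.conj c).toEquiv.subtypeEquiv ?_)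
  intro y
  show y ∈ centralizer ({x} : Set G) ↔ c * y * c⁻¹ ∈ centralizer ({c * x * c⁻¹} : Set G)
  rw [mem_centralizer_singleton_iff, mem_centralizer_singleton_iff]
  constructor
  · intro h
    calc c * y * c⁻¹ * (c * x * c⁻¹) = c * (y * x) * c⁻¹ := by group
      _ = c * x * c⁻¹ * (c * y * c⁻¹) := by rw [h]; group
  · intro h
    calc y * x = c⁻¹ * (c * y * c⁻¹ * (c * x * c⁻¹)) * c := by group
      _ = x * y := by rw [h]; group

/-- All involutions of `V` have the same centraliser `C(u) = V × H0`. -/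
theorem centralizer_eq (h : Fus z u) (F : Full z u f U V H0) (h60 : Nat.card H0 = 60) {v : G}
    (hv : v ∈ V) (hv1 : v ≠ 1) : centralizer ({v} : Set G) = centralizer ({u} : Set G) := by
  have hle : centralizer ({u} : Set G) ≤ centralizer ({v} : Set G) := by
    intro x hx
    obtain ⟨a, ha, b, hb, rfl⟩ := exists_mul F hx
    rw [mem_centralizer_singleton_iff, mul_assoc, ← V_comm h F h60 hv hb, ← mul_assoc, comm_V h F ha hv,
      mul_assoc]
  refine (eq_of_le_of_card_ge hle ?_).symm
  rw [card_centralizer_of_isConj (isConj_of_mem_V h F hv hv1)]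

omit [Finite G] in
theorem card_centralizer_u (F : Full z u f U V H0) (h60 : Nat.card H0 = 60) :
    Nat.card (centralizer ({u} : Set G)) = 240 := by
  rw [F.str.card, h60]

theorem real5 : ∀ g : alternatingGroup (Fin 5), g ^ 5 = 1 → ∃ x : alternatingGroup (Fin 5), x * g * x⁻¹ = g⁻¹ := by
  decide +kernel

theorem cent_VH (h : Fus z u) (F : Full z u f U V H0) (h60 : Nat.card H0 = 60) {w : G} (hw : w ∈ H0)
    (hself : ∀ x ∈ H0, x * w = w * x → ∃ k : ℤ, x = w ^ k) :
    ∀ v ∈ V, v ≠ 1 → ∀ x, x * v = v * x → x * w = w * x → ∃ y ∈ V, ∃ k : ℤ, x = y * w ^ k := by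
  intro v hv hv1 x hxv hxw
  have hx : x ∈ centralizer ({v} : Set G) := mem_centralizer_singleton_iff.mpr hxv
  rw [centralizer_eq h F h60 hv hv1] at hx
  obtain ⟨a, ha, b, hb, rfl⟩ := exists_mul F hx
  have hbw : b * w = w * b := by
    have h1 : a * (b * w) = a * (w * b) := by
      calc a * (b * w) = a * b * w := by group
        _ = w * (a * b) := hxw
        _ = w * a * b := by group
        _ = a * (w * b) := by rw [← V_comm h F h60 ha hw]; group
    exact mul_left_cancel h1
  obtain ⟨k, hk⟩ := hself b hb hbw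
  exact ⟨a, ha, k, by rw [hk]⟩

/-- Elements of order 5 of `H0` are good. -/
theorem good_of_mem (h : Fus z u) (F : Full z u f U V H0) (h60 : Nat.card H0 = 60) {w : G} (hw : w ∈ H0)
    (h5 : orderOf w = 5) : SylowFive.Good w := by
  obtain ⟨e⟩ := exists_equiv h F h60
  have h5' : orderOf (⟨w, hw⟩ : H0) = 5 := by rw [← orderOf_coe]; exact h5
  refine ⟨h5, ?_, V, F.cardV, fun v hv => sq_V h F hv, fun v hv => V_comm h F h60 hv hw, ?_⟩
  · have h1 : orderOf (e ⟨w, hw⟩) = 5 := by rw [MulEquiv.orderOf_eq]; exact h5'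
    obtain ⟨x, hx⟩ := real5 (e ⟨w, hw⟩) (orderOf_dvd_iff_pow_eq_one.mp h1.dvd)
    rw [isConj_iff]
    refine ⟨((e.symm x : H0) : G), ?_⟩
    have h2 : e.symm x * ⟨w, hw⟩ * (e.symm x)⁻¹ = (⟨w, hw⟩ : H0)⁻¹ := by
      apply e.injective
      rw [map_mul, map_mul, map_inv, map_inv, MulEquiv.apply_symm_apply]
      exact hx
    exact congrArg Subtype.val h2
  · apply cent_VH h F h60 hw
    intro x hx hxw
    have h1 := A5Facts.mem_zpowers_of_comm e (g := (⟨w, hw⟩ : H0)) (x := ⟨x, hx⟩) h5' (Subtype.ext hxw)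
    obtain ⟨k, hk⟩ := mem_zpowers_iff.mp h1
    exact ⟨k, (congrArg Subtype.val hk).symm⟩

/-- `C(w)/⟨w⟩` satisfies the hypothesis of the four-group theorem, `w` of order 5 in `H0`. -/
theorem hyp_five (h : Fus z u) (F : Full z u f U V H0) (h60 : Nat.card H0 = 60) {w : G} (hw : w ∈ H0)
    (h5 : orderOf w = 5) : Hyp (im w V) := by
  obtain ⟨e⟩ := exists_equiv h F h60
  have h5' : orderOf (⟨w, hw⟩ : H0) = 5 := by rw [← orderOf_coe]; exact h5
  refine hyp_im (p := 5) (by decide) h5 F.cardV (fun v hv => sq_V h F hv)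
    (fun v hv => V_comm h F h60 hv hw) (cent_VH h F h60 hw ?_)
  intro x hx hxw
  have h1 := A5Facts.mem_zpowers_of_comm e (g := (⟨w, hw⟩ : H0)) (x := ⟨x, hx⟩) h5' (Subtype.ext hxw)
  obtain ⟨k, hk⟩ := mem_zpowers_iff.mp h1
  exact ⟨k, (congrArg Subtype.val hk).symm⟩

/-- `C(w)/⟨w⟩` satisfies the hypothesis of the four-group theorem, `w` of order 3 in `H0`. -/
theorem hyp_three (h : Fus z u) (F : Full z u f U V H0) (h60 : Nat.card H0 = 60) {w : G} (hw : w ∈ H0)
    (h3 : orderOf w = 3) : Hyp (im w V) := by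
  obtain ⟨e⟩ := exists_equiv h F h60
  have h3' : orderOf (⟨w, hw⟩ : H0) = 3 := by rw [← orderOf_coe]; exact h3
  refine hyp_im (p := 3) (by decide) h3 F.cardV (fun v hv => sq_V h F hv)
    (fun v hv => V_comm h F h60 hv hw) (cent_VH h F h60 hw ?_)
  intro x hx hxw
  rcases mem_zpowers_of_comm3 e (g := (⟨w, hw⟩ : H0)) (x := ⟨x, hx⟩) h3' (Subtype.ext hxw) with h1 | h1 | h1
  · exact ⟨0, by rw [zpow_zero]; exact congrArg Subtype.val h1⟩
  · exact ⟨1, by rw [zpow_one]; exact congrArg Subtype.val h1⟩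
  · refine ⟨2, ?_⟩
    have h2 : x = w ^ (2 : ℕ) := congrArg Subtype.val h1
    rw [h2]; norm_cast

theorem card_centralizer_three (h : Fus z u) (F : Full z u f U V H0) (h60 : Nat.card H0 = 60) {w : G}
    (hw : w ∈ H0) (h3 : orderOf w = 3) : Nat.card (centralizer ({w} : Set G)) = 12 ∨
      Nat.card (centralizer ({w} : Set G)) = 36 ∨ Nat.card (centralizer ({w} : Set G)) = 180 := by
  have h1 := (hyp_three h F h60 hw h3).card_cases
  rw [card_centralizer_eq, h3]
  rcases h1 with h1 | h1 | h1 <;> rw [h1] <;> simp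

/-- In a group of order 604800, the centraliser of an element of order 5 of `H0` has order 300. -/
theorem card_centralizer_five (h : Fus z u) (F : Full z u f U V H0) (h60 : Nat.card H0 = 60)
    (hG : Nat.card G = 604800) {w : G} (hw : w ∈ H0) (h5 : orderOf w = 5) :
    Nat.card (centralizer ({w} : Set G)) = 300 := by
  haveI : Fact (Nat.Prime 5) := ⟨by norm_num⟩
  obtain ⟨P⟩ : Nonempty (Sylow 5 G) := inferInstance
  obtain ⟨g, hg⟩ := SylowFive.exists_conj_mem_sylow P (y := w) (n := 1) (by rw [h5]; norm_num)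
  rw [card_centralizer_of_isConj (isConj_iff.mpr ⟨g, rfl⟩ : IsConj w (g * w * g⁻¹))]
  exact ((good_of_mem h F h60 hw h5).conj g).card_centralizer hG hg

theorem card_CQ_five (h : Fus z u) (F : Full z u f U V H0) (h60 : Nat.card H0 = 60)
    (hG : Nat.card G = 604800) {w : G} (hw : w ∈ H0) (h5 : orderOf w = 5) : Nat.card (CQ w) = 60 := by
  have h1 := card_centralizer_eq w
  rw [card_centralizer_five h F h60 hG hw h5, h5] at h1
  omega

/-- `C(w)/⟨w⟩` is isomorphic to the alternating group of degree 5. -/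
theorem exists_equiv_CQ (h : Fus z u) (F : Full z u f U V H0) (h60 : Nat.card H0 = 60)
    (hG : Nat.card G = 604800) {w : G} (hw : w ∈ H0) (h5 : orderOf w = 5) :
    Nonempty (CQ w ≃* alternatingGroup (Fin 5)) :=
  (hyp_five h F h60 hw h5).equiv_of_card_60 (card_CQ_five h F h60 hG hw h5)

end sixty

end Cfsg.Agent.J2Type.Cent5
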