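import Mathlib
import Cfsg.Prelude.Def_Transfer
import Cfsg.Agent.J2Type.Model
set_option linter.all false

/-!
# Existence of the signed permutation model
-/

set_option autoImplicit false

namespace Cfsg.Agent.J2Type.ModelExists

open Cfsg.Agent.J2Type.QStruct Cfsg.Agent.J2Type.Model
open scoped commutatorElement

variable {C : Type*} [Group C]

theorem hyp_of_extraspecial (Q : Subgroup C) [Q.Normal]
    (hQ : Cfsg.IsExtraspecial 2 Q) (hC : Subgroup.centralizer (Q : Set C) ≤ Q) :
    ∃ z, Hyp Q z := by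
  obtain ⟨⟨-, -, hcom⟩, hZ⟩ := hQ
  obtain ⟨z, hz1, hzu⟩ := (Nat.card_eq_two_iff' (1 : Subgroup.center Q)).1 hZ
  have hcen : ∀ q : Q, q ∈ Subgroup.center Q → q = 1 ∨ q = z := by
    intro q hq
    by_cases h1 : (⟨q, hq⟩ : Subgroup.center Q) = 1
    · left; exact congrArg Subtype.val h1
    · right; exact congrArg Subtype.val (hzu ⟨q, hq⟩ h1)
  have hzc : (z : Q) ∈ Subgroup.center Q := z.2
  have hz1' : ((z : Q) : C) ≠ 1 := by
    intro h
    apply hz1
    apply Subtype.ext
    exact Subtype.ext h
  have hzz : ((z : Q) : C) * ((z : Q) : C) = 1 := by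
    rcases hcen ((z : Q) * z) (mul_mem hzc hzc) with h | h
    · exact congrArg Subtype.val h
    · exfalso
      have := congrArg Subtype.val h
      have h2 : ((z : Q) : C) * ((z : Q) : C) = ((z : Q) : C) := this
      exact hz1' (mul_eq_left.1 h2)
  have hcomm : ∀ x ∈ Q, ∀ y ∈ Q, x * y = y * x ∨ x * y = ((z : Q) : C) * (y * x) := by
    intro x hx y hy
    have h1 : ⁅(⟨x, hx⟩ : Q), (⟨y, hy⟩ : Q)⁆ ∈ Subgroup.center Q := by
      rw [← hcom, _root_.commutator_def]
      exact Subgroup.commutator_mem_commutator (Subgroup.mem_top _) (Subgroup.mem_top _)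
    have h2 : x * y = ((⁅(⟨x, hx⟩ : Q), (⟨y, hy⟩ : Q)⁆ : Q) : C) * (y * x) := by
      show x * y = (x * y * x⁻¹ * y⁻¹) * (y * x)
      group
    rcases hcen _ h1 with h | h
    · left; rw [h2, h]; simp
    · right; rw [h2, h]
  have hzcom : ∀ c, c * ((z : Q) : C) = ((z : Q) : C) * c := by
    intro c
    have hm : c * ((z : Q) : C) * c⁻¹ ∈ Q := Subgroup.Normal.conj_mem inferInstance _ (z : Q).2 c
    have h1 : (⟨c * ((z : Q) : C) * c⁻¹, hm⟩ : Q) ∈ Subgroup.center Q := by
      rw [Subgroup.mem_center_iff]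
      intro q
      apply Subtype.ext
      show (q : C) * (c * ((z : Q) : C) * c⁻¹) = (c * ((z : Q) : C) * c⁻¹) * q
      have hm2 : c⁻¹ * (q : C) * c ∈ Q := by
        have := Subgroup.Normal.conj_mem (H := Q) inferInstance _ q.2 c⁻¹
        rw [inv_inv] at this
        exact this
      have h2 := (Subgroup.mem_center_iff.1 hzc) ⟨c⁻¹ * (q : C) * c, hm2⟩
      have h3 : c⁻¹ * (q : C) * c * ((z : Q) : C) = ((z : Q) : C) * (c⁻¹ * (q : C) * c) :=
        congrArg Subtype.val h2
      calc (q : C) * (c * ((z : Q) : C) * c⁻¹) = c * (c⁻¹ * (q : C) * c * ((z : Q) : C)) * c⁻¹ := by group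
        _ = c * (((z : Q) : C) * (c⁻¹ * (q : C) * c)) * c⁻¹ := by rw [h3]
        _ = _ := by group
    rcases hcen _ h1 with h | h
    · exfalso
      have h2 : c * ((z : Q) : C) * c⁻¹ = 1 := congrArg Subtype.val h
      apply hz1'
      have : ((z : Q) : C) = c⁻¹ * (c * ((z : Q) : C) * c⁻¹) * c := by group
      rw [this, h2]; group
    · have h2 : c * ((z : Q) : C) * c⁻¹ = ((z : Q) : C) := congrArg Subtype.val h
      exact mul_inv_eq_iff_eq_mul.1 h2
  refine ⟨((z : Q) : C), hz1', hzz, hzcom, (z : Q).2, hcomm, ?_, ?_⟩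
  · intro x hx
    have h1 : (⟨x * x, Q.mul_mem hx hx⟩ : Q) ∈ Subgroup.center Q := by
      rw [Subgroup.mem_center_iff]
      intro y
      apply Subtype.ext
      show (y : C) * (x * x) = x * x * (y : C)
      rcases hcomm (y : C) y.2 x hx with h | h
      · calc (y : C) * (x * x) = (y * x) * x := by group
          _ = (x * y) * x := by rw [h]
          _ = x * (y * x) := by group
          _ = x * (x * y) := by rw [h]
          _ = _ := by group
      · calc (y : C) * (x * x) = (y * x) * x := by group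
          _ = (((z : Q) : C) * (x * y)) * x := by rw [h]
          _ = ((z : Q) : C) * x * (y * x) := by group
          _ = ((z : Q) : C) * x * (((z : Q) : C) * (x * y)) := by rw [h]
          _ = ((z : Q) : C) * (x * ((z : Q) : C)) * (x * y) := by group
          _ = ((z : Q) : C) * (((z : Q) : C) * x) * (x * y) := by rw [hzcom]
          _ = (((z : Q) : C) * ((z : Q) : C)) * (x * x * y) := by group
          _ = _ := by rw [hzz, one_mul]
    rcases hcen _ h1 with h | h
    · left; exact congrArg Subtype.val h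
    · right; exact congrArg Subtype.val h
  · intro c hc
    have hcQ : c ∈ Q := by
      apply hC
      rw [Subgroup.mem_centralizer_iff]
      intro q hq
      exact (hc q hq).symm
    have h1 : (⟨c, hcQ⟩ : Q) ∈ Subgroup.center Q := by
      rw [Subgroup.mem_center_iff]
      intro q
      apply Subtype.ext
      exact (hc q q.2).symm
    rcases hcen _ h1 with h | h
    · left; exact congrArg Subtype.val h
    · right; exact congrArg Subtype.val h

/-- **Existence of the signed permutation model** of a finite group with a normal extraspecial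
subgroup `Q` of order 32 containing its centraliser, and quotient of order 60. -/
theorem exists_model [Finite C] (Q : Subgroup C) [Q.Normal]
    (hQ : Cfsg.IsExtraspecial 2 Q) (hcard : Nat.card Q = 32)
    (hC : Subgroup.centralizer (Q : Set C) ≤ Q) (h60 : Nat.card (C ⧸ Q) = 60) :
    ∃ (z : C) (v : Fin 5 → C) (ρ : C →* SP), IsModel Q z v ρ := by
  obtain ⟨z, h⟩ := hyp_of_extraspecial Q hQ hC
  have h1920 : Nat.card C = 1920 := by
    have := Subgroup.card_eq_card_quotient_mul_card_subgroup Q
    rw [h60, hcard] at this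
    omega
  have h5 : Fact (Nat.Prime 5) := ⟨by norm_num⟩
  obtain ⟨w, hw⟩ := exists_prime_orderOf_dvd_card' (G := C) 5 (by rw [h1920]; norm_num)
  have hw5 : w ^ 5 = 1 := by rw [← hw]; exact pow_orderOf_eq_one w
  have hw1 : w ≠ 1 := by
    intro h1
    rw [h1, orderOf_one] at hw
    norm_num at hw
  obtain ⟨v, F, -, d2, d3⟩ := h.exists_five hcard w hw5 hw1
  obtain ⟨ρ, hρ⟩ := isModel_of_hyp h h60 F d2 d3
  exact ⟨z, v, ρ, hρ⟩

end Cfsg.Agent.J2Type.ModelExists
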