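import Cfsg.Agent.J2Type.A5More
import Cfsg.Agent.J2Type.CentQuot
import Cfsg.Agent.J2Type.Cent5
import Cfsg.Agent.J2Type.Order
import Cfsg.Agent.J2Type.Pres
import Mathlib
import Cfsg.Agent.J2.HundredGens
import Cfsg.Agent.S1619
set_option linter.all false

-- part: J2Type/ElemA
section
/-!
Lifting generators of `A₅ = C(w)/⟨w⟩` for an element `w` of order 5 inverted by an involution `z`.
-/

set_option autoImplicit false

namespace Cfsg.Agent.J2Type.ElemA

open Subgroup Cfsg.Agent.J2Type.CentQuot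

theorem eq_one_of_coprime {G : Type*} [Group G] {g : G} {m n : ℕ} (hm : g ^ m = 1) (hn : g ^ n = 1)
    (hmn : Nat.Coprime m n) : g = 1 := by
  have h1 := orderOf_dvd_of_pow_eq_one hm
  have h2 := orderOf_dvd_of_pow_eq_one hn
  have h3 : orderOf g ∣ 1 := by
    rw [← hmn]; exact Nat.dvd_gcd h1 h2
  exact orderOf_eq_one_iff.mp (Nat.dvd_one.mp h3)

variable {G : Type*} [Group G] {w v x z : G}

theorem exists_a (hw : orderOf w = 5) (φ : CQ w ≃* alternatingGroup (Fin 5))
    (hvw : v * w = w * v) (hxw : x * w = w * x) (hzw : z * w * z⁻¹ = w⁻¹) (z2 : z * z = 1)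
    (v2 : v * v = 1) (hv1 : v ≠ 1) (x3 : x ^ 3 = 1) (hx1 : x ≠ 1) (vx : (v * x) ^ 3 = 1)
    (hvz : v * z = z * v) (hxz : x * z = z * x) :
    ∃ a : G, a * a = 1 ∧ (x * a) ^ 2 = 1 ∧ (v * a) ^ 3 = 1 ∧ a * z = z * a ∧ a * w = w * a ∧
      ∃ k : ℕ, orderOf ((v * x * a) ^ k) = 5 := by
  have hw5 : w ^ 5 = 1 := by rw [← hw]; exact pow_orderOf_eq_one w
  have hwz5 : ∀ k : ℤ, (w ^ k) ^ 5 = 1 := by
    intro k
    rw [← zpow_natCast, ← zpow_mul, mul_comm, zpow_mul]
    norm_cast
    rw [hw5, one_zpow]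
  -- elements of `C(w)` that are trivial modulo `w`
  have key : ∀ g : centralizer ({w} : Set G), (g : CQ w) = 1 → ∃ k : ℤ, (g : G) = w ^ k := by
    intro g hg
    obtain ⟨k, hk⟩ := mem_zpowers_iff.mp ((mk_eq_one g).mp hg)
    exact ⟨k, hk.symm⟩
  have hC : ∀ {g : G}, g * w = w * g → g ∈ centralizer ({w} : Set G) :=
    fun hg => mem_centralizer_singleton_iff.mpr hg
  let v0 : centralizer ({w} : Set G) := ⟨v, hC hvw⟩
  let x0 : centralizer ({w} : Set G) := ⟨x, hC hxw⟩
  have hv0 : (v0 : CQ w) ≠ 1 := by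
    intro h
    obtain ⟨k, hk⟩ := key v0 h
    apply hv1
    have h2 : v ^ 5 = 1 := by
      have : v = w ^ k := hk
      rw [this]; exact hwz5 k
    exact eq_one_of_coprime (m := 5) (n := 2) h2 (by rw [pow_two, v2]) (by norm_num)
  have hx0 : (x0 : CQ w) ≠ 1 := by
    intro h
    obtain ⟨k, hk⟩ := key x0 h
    apply hx1
    have h2 : x ^ 5 = 1 := by
      have : x = w ^ k := hk
      rw [this]; exact hwz5 k
    exact eq_one_of_coprime (m := 5) (n := 3) h2 x3 (by norm_num)
  have hv02 : (v0 : CQ w) * v0 = 1 := by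
    rw [← QuotientGroup.mk_mul]
    have : v0 * v0 = 1 := Subtype.ext v2
    rw [this]; rfl
  have hx03 : (x0 : CQ w) ^ 3 = 1 := by
    rw [← QuotientGroup.mk_pow]
    have : x0 ^ 3 = 1 := Subtype.ext x3
    rw [this]; rfl
  have hvx03 : ((v0 : CQ w) * x0) ^ 3 = 1 := by
    rw [← QuotientGroup.mk_mul, ← QuotientGroup.mk_pow]
    have : (v0 * x0) ^ 3 = 1 := Subtype.ext vx
    rw [this]; rfl
  have c1 : φ v0 * φ v0 = 1 := by rw [← map_mul, hv02, map_one]
  have c2 : φ v0 ≠ 1 := by rw [Ne, map_eq_one_iff φ φ.injective]; exact hv0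
  have c3 : φ x0 ^ 3 = 1 := by rw [← map_pow, hx03, map_one]
  have c4 : φ x0 ≠ 1 := by rw [Ne, map_eq_one_iff φ φ.injective]; exact hx0
  have c5 : (φ v0 * φ x0) ^ 3 = 1 := by rw [← map_mul, ← map_pow, hvx03, map_one]
  obtain ⟨b, b2, b1, xb, vb, vxb, vxb1⟩ := A5More.exists_a _ _ c1 c2 c3 c4 c5
  have huniq := A5More.unique_a _ _ c1 c2 c3 c4 c5 b b2 b1 xb vb
  -- lift `b`
  obtain ⟨a1, ha1⟩ := QuotientGroup.mk_surjective (φ.symm b)
  have ha1w : (a1 : G) * w = w * a1 := mem_centralizer_singleton_iff.mp a1.2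
  have h1 : ((a1 * a1 : centralizer ({w} : Set G)) : CQ w) = 1 := by
    rw [QuotientGroup.mk_mul, ha1, ← map_mul, b2, map_one]
  obtain ⟨k, hk⟩ := key _ h1
  have hk : (a1 : G) * a1 = w ^ k := hk
  have hcomm : ∀ j : ℤ, (a1 : G) * w ^ j = w ^ j * a1 := fun j =>
    ((show Commute (a1 : G) w from ha1w).zpow_right j).eq
  set a : G := a1 * w ^ (2 * k) with ha
  have haw : a * w = w * a := by
    rw [ha, mul_assoc, (Commute.refl w).zpow_left (2 * k), ← mul_assoc, ha1w, mul_assoc]
  have a2 : a * a = 1 := by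
    calc a * a = (a1 * a1) * (w ^ (2 * k) * w ^ (2 * k)) := by
          rw [ha]
          calc (a1 : G) * w ^ (2 * k) * (a1 * w ^ (2 * k))
              = a1 * (w ^ (2 * k) * a1) * w ^ (2 * k) := by group
            _ = a1 * (a1 * w ^ (2 * k)) * w ^ (2 * k) := by rw [hcomm]
            _ = _ := by simp only [mul_assoc]
      _ = w ^ k * (w ^ (2 * k) * w ^ (2 * k)) := by rw [hk]
      _ = (w ^ k) ^ 5 := by
          rw [← zpow_add, ← zpow_add, ← zpow_natCast, ← zpow_mul]
          congr 1; push_cast; ring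
      _ = 1 := hwz5 k
  let a0 : centralizer ({w} : Set G) := ⟨a, hC haw⟩
  have hwmem : ∀ j : ℤ, w ^ j ∈ centralizer ({w} : Set G) := fun j =>
    hC ((Commute.refl w).zpow_left j).eq
  have ha0 : (a0 : CQ w) = φ.symm b := by
    rw [← ha1]
    apply QuotientGroup.eq.mpr
    rw [mem_cyc]
    have : ((a0⁻¹ * a1 : centralizer ({w} : Set G)) : G) = w ^ (-(2 * k)) := by
      rw [coe_mul, coe_inv]
      change a⁻¹ * (a1 : G) = _
      rw [ha, mul_inv_rev, mul_assoc, inv_mul_cancel, mul_one, zpow_neg]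
    rw [this]
    exact zpow_mem (mem_zpowers w) _
  have hφa0 : φ a0 = b := by rw [ha0, MulEquiv.apply_symm_apply]
  have liftrel : ∀ g : centralizer ({w} : Set G), φ g = 1 → ∃ k : ℤ, (g : G) = w ^ k := by
    intro g hg
    apply key
    rwa [map_eq_one_iff φ φ.injective] at hg
  have hxwk : ∀ j : ℤ, x * w ^ j = w ^ j * x := fun j =>
    ((show Commute x w from hxw).zpow_right j).eq
  have hvwk : ∀ j : ℤ, v * w ^ j = w ^ j * v := fun j =>
    ((show Commute v w from hvw).zpow_right j).eq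
  have hawk : ∀ j : ℤ, a * w ^ j = w ^ j * a := fun j =>
    ((show Commute a w from haw).zpow_right j).eq
  have xa : (x * a) ^ 2 = 1 := by
    have h2 : φ ((x0 * a0) ^ 2 : centralizer ({w} : Set G)) = 1 := by
      rw [QuotientGroup.mk_pow, QuotientGroup.mk_mul, map_pow, map_mul, hφa0, xb]
    obtain ⟨j, hj⟩ := liftrel _ h2
    have hj : (x * a) ^ 2 = w ^ j := hj
    have h3 : a * x * a = x⁻¹ * w ^ j := by
      rw [← hj, pow_two]; group
    have h4 : (a * x * a) ^ 3 = 1 := by
      calc (a * x * a) ^ 3 = a * x * (a * a) * x * (a * a) * x * a := by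
            simp only [pow_succ, pow_zero, one_mul, mul_assoc]
        _ = a * (x ^ 3) * a := by
            rw [a2, mul_one, mul_one]; simp only [pow_succ, pow_zero, one_mul, mul_assoc]
        _ = 1 := by rw [x3, mul_one, a2]
    have h5 : (x⁻¹ * w ^ j) ^ 3 = (w ^ j) ^ 3 := by
      have : Commute (x⁻¹) (w ^ j) := (show Commute x (w ^ j) from hxwk j).inv_left
      rw [this.mul_pow, inv_pow, x3, inv_one, one_mul]
    rw [h3, h5] at h4
    rw [hj]
    exact eq_one_of_coprime (m := 5) (n := 3) (hwz5 j) h4 (by norm_num)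
  have va : (v * a) ^ 3 = 1 := by
    have h2 : φ ((v0 * a0) ^ 3 : centralizer ({w} : Set G)) = 1 := by
      rw [QuotientGroup.mk_pow, QuotientGroup.mk_mul, map_pow, map_mul, hφa0, vb]
    obtain ⟨j, hj⟩ := liftrel _ h2
    have hj : (v * a) ^ 3 = w ^ j := hj
    have h3 : v * (v * a) ^ 3 * v = ((v * a) ^ 3)⁻¹ := by
      have hvi : v⁻¹ = v := (eq_inv_of_mul_eq_one_left v2).symm
      have hai : a⁻¹ = a := (eq_inv_of_mul_eq_one_left a2).symm
      rw [← inv_pow, mul_inv_rev, hvi, hai]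
      calc v * (v * a) ^ 3 * v = (v * v) * (a * v) ^ 3 := by
            simp only [pow_succ, pow_zero, one_mul, mul_assoc]
        _ = (a * v) ^ 3 := by rw [v2, one_mul]
    have h4 : v * w ^ j * v = w ^ j := by rw [hvwk, mul_assoc, v2, mul_one]
    rw [hj, h4] at h3
    have h5 : (w ^ j) ^ 2 = 1 := by
      rw [pow_two]
      nth_rw 1 [h3]
      exact inv_mul_cancel _
    rw [hj]
    exact eq_one_of_coprime (m := 5) (n := 2) (hwz5 j) h5 (by norm_num)
  refine ⟨a, a2, xa, va, ?_, haw, ?_⟩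
  · -- conjugation by `z`
    have hzi : z⁻¹ = z := (eq_inv_of_mul_eq_one_left z2).symm
    have hzwk : ∀ j : ℤ, z * w ^ j * z⁻¹ = (w ^ j)⁻¹ := by
      intro j
      rw [← conj_zpow, hzw, inv_zpow]
    have hcw : (z * a * z⁻¹) * w = w * (z * a * z⁻¹) := by
      have h1 : w = z * w⁻¹ * z⁻¹ := by
        have := hzwk (-1)
        rw [zpow_neg_one, inv_inv] at this
        exact this.symm
      calc (z * a * z⁻¹) * w = (z * a * z⁻¹) * (z * w⁻¹ * z⁻¹) := by rw [← h1]
        _ = z * (a * w⁻¹) * z⁻¹ := by group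
        _ = z * (w⁻¹ * a) * z⁻¹ := by
            rw [((show Commute a w from haw).inv_right).eq]
        _ = (z * w⁻¹ * z⁻¹) * (z * a * z⁻¹) := by group
        _ = w * (z * a * z⁻¹) := by rw [← h1]
    let a' : centralizer ({w} : Set G) := ⟨z * a * z⁻¹, hC hcw⟩
    have ha'2 : a' * a' = 1 := Subtype.ext (by
      change (z * a * z⁻¹) * (z * a * z⁻¹) = 1
      calc (z * a * z⁻¹) * (z * a * z⁻¹) = z * (a * a) * z⁻¹ := by group
        _ = 1 := by rw [a2]; group)
    have hxa' : (x0 * a') ^ 2 = 1 := Subtype.ext (by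
      change (x * (z * a * z⁻¹)) ^ 2 = 1
      calc (x * (z * a * z⁻¹)) ^ 2 = (z * (x * a) * z⁻¹) ^ 2 := by
            congr 1
            rw [← mul_assoc, ← mul_assoc, hxz]; group
        _ = z * (x * a) ^ 2 * z⁻¹ := by rw [conj_pow]
        _ = 1 := by rw [xa]; group)
    have hva' : (v0 * a') ^ 3 = 1 := Subtype.ext (by
      change (v * (z * a * z⁻¹)) ^ 3 = 1
      calc (v * (z * a * z⁻¹)) ^ 3 = (z * (v * a) * z⁻¹) ^ 3 := by
            congr 1
            rw [← mul_assoc, ← mul_assoc, hvz]; group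
        _ = z * (v * a) ^ 3 * z⁻¹ := by rw [conj_pow]
        _ = 1 := by rw [va]; group)
    have h2 : φ a' = b := by
      apply huniq
      · rw [← map_mul, ← QuotientGroup.mk_mul, ha'2]; exact map_one φ
      · intro h0
        obtain ⟨j, hj⟩ := liftrel a' h0
        have hj : z * a * z⁻¹ = w ^ j := hj
        have h3 : w ^ j = 1 := by
          have h4 : (w ^ j) ^ 2 = 1 := by
            rw [pow_two, ← hj]
            exact congrArg Subtype.val ha'2
          exact eq_one_of_coprime (m := 5) (n := 2) (hwz5 j) h4 (by norm_num)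
        rw [h3, conj_eq_one_iff] at hj
        apply b1
        rw [← hφa0]
        have h5 : a0 = 1 := Subtype.ext hj
        rw [h5]; exact map_one φ
      · rw [← map_mul, ← map_pow, ← QuotientGroup.mk_mul, ← QuotientGroup.mk_pow, hxa']; exact map_one φ
      · rw [← map_mul, ← map_pow, ← QuotientGroup.mk_mul, ← QuotientGroup.mk_pow, hva']; exact map_one φ
    have h3 : φ ((a0⁻¹ * a' : centralizer ({w} : Set G)) : CQ w) = 1 := by
      rw [QuotientGroup.mk_mul, QuotientGroup.mk_inv, map_mul, map_inv, h2, hφa0, inv_mul_cancel]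
    obtain ⟨j, hj⟩ := liftrel _ h3
    have hj : a⁻¹ * (z * a * z⁻¹) = w ^ j := hj
    have h4 : z * a * z⁻¹ = a * w ^ j := by rw [← hj]; group
    have h5 : (w ^ j) ^ 2 = 1 := by
      have h6 : (a * w ^ j) ^ 2 = 1 := by
        rw [← h4, conj_pow, pow_two, a2]; group
      rw [(show Commute a (w ^ j) from hawk j).mul_pow, pow_two a, a2, one_mul] at h6
      exact h6
    have h6 := eq_one_of_coprime (m := 5) (n := 2) (hwz5 j) h5 (by norm_num)
    rw [h6, mul_one] at h4
    exact (mul_inv_eq_iff_eq_mul.mp h4).symm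
  · -- an element of order 5
    have h2 : φ ((v0 * x0 * a0) ^ 5 : centralizer ({w} : Set G)) = 1 := by
      rw [QuotientGroup.mk_pow, QuotientGroup.mk_mul, QuotientGroup.mk_mul, map_pow, map_mul, map_mul,
        hφa0, vxb]
    obtain ⟨j, hj⟩ := liftrel _ h2
    have hj : (v * x * a) ^ 5 = w ^ j := hj
    have h3 : (v * x * a) ^ 25 = 1 := by
      rw [show 25 = 5 * 5 from rfl, pow_mul, hj, hwz5]
    have h4 : v * x * a ≠ 1 := by
      intro h0
      apply vxb1
      have h5 : v0 * x0 * a0 = 1 := Subtype.ext h0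
      rw [← hφa0, ← map_mul, ← map_mul, ← QuotientGroup.mk_mul, ← QuotientGroup.mk_mul, h5]
      exact map_one φ
    have h5 : orderOf (v * x * a) ∣ 5 ^ 2 := orderOf_dvd_of_pow_eq_one h3
    have hn : orderOf (v * x * a) ≠ 1 := fun h0 => h4 (orderOf_eq_one_iff.mp h0)
    obtain ⟨m, hm, hm'⟩ := (Nat.dvd_prime_pow (by norm_num)).mp h5
    have hm0 : m ≠ 0 := by
      rintro rfl
      exact hn hm'
    refine ⟨5 ^ (m - 1), ?_⟩
    rw [orderOf_pow_of_dvd (by positivity) (by rw [hm']; exact pow_dvd_pow 5 (Nat.sub_le m 1)), hm']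
    obtain ⟨n, rfl⟩ := Nat.exists_eq_succ_of_ne_zero hm0
    rw [Nat.succ_eq_add_one, Nat.add_sub_cancel, pow_succ]
    exact Nat.mul_div_cancel_left 5 (by positivity)

end Cfsg.Agent.J2Type.ElemA
end

-- part: J2Type/GRels
section
/-!
The relations `Pres.Rels` hold for suitable elements of a group of Hall–Janko type.
-/

set_option autoImplicit false

namespace Cfsg.Agent.J2Type.GRels

open Subgroup Cfsg.Agent.J2Type.Base Cfsg.Agent.J2Type.CentU Cfsg.Agent.J2Type.Cent5
  Cfsg.Agent.J2Type.CentQuot Cfsg.Agent.J2Type.Pres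

variable {G : Type*} [Group G] {z u f : G} {U V H0 : Subgroup G}

/-- norm of `g` with respect to `x` -/
def nm (x g : G) : G := g * (x * g * x⁻¹) * (x ^ 2 * g * (x ^ 2)⁻¹)

theorem nm_conj {x g k : G} (hk : k * x = x * k) : nm x (k * g * k⁻¹) = k * nm x g * k⁻¹ := by
  have h1 : ∀ j : ℕ, x ^ j * (k * g * k⁻¹) * (x ^ j)⁻¹ = k * (x ^ j * g * (x ^ j)⁻¹) * k⁻¹ := by
    intro j
    have h2 : Commute k (x ^ j) := (show Commute k x from hk).pow_right j
    calc x ^ j * (k * g * k⁻¹) * (x ^ j)⁻¹ = (x ^ j * k) * g * (x ^ j * k)⁻¹ := by group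
      _ = (k * x ^ j) * g * (k * x ^ j)⁻¹ := by rw [h2.eq]
      _ = _ := by group
  have h3 := h1 1
  rw [pow_one] at h3
  unfold nm
  rw [h3, h1 2]
  group

/-- A four-group `V` acted on by `x` of order 3 moving `v`. -/
theorem four_cases {x v : G} (hV : Nat.card V = 4) (hV2 : ∀ a ∈ V, a * a = 1) (hx3 : x ^ 3 = 1)
    (hxV : ∀ a ∈ V, x * a * x⁻¹ ∈ V) (hv : v ∈ V) (hxv : x * v ≠ v * x) :
    nm x v = 1 ∧ ∀ b ∈ V, b = 1 ∨ b = v ∨ b = x * v * x⁻¹ ∨ b = x ^ 2 * v * (x ^ 2)⁻¹ := by
  classical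
  set v1 := x * v * x⁻¹ with hv1
  set v2 := x ^ 2 * v * (x ^ 2)⁻¹ with hv2
  have hv1V : v1 ∈ V := hxV v hv
  have hv2' : v2 = x * v1 * x⁻¹ := by rw [hv2, hv1, pow_two]; group
  have hv2V : v2 ∈ V := by rw [hv2']; exact hxV v1 hv1V
  have hv3 : x * v2 * x⁻¹ = v := by
    have : x * v2 * x⁻¹ = x ^ 3 * v * (x ^ 3)⁻¹ := by
      rw [hv2]; simp only [pow_succ, pow_zero, one_mul]; group
    rw [this, hx3]; group
  have hne1 : v ≠ 1 := by
    rintro rfl; apply hxv; simp
  have h01 : v ≠ v1 := by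
    intro h; apply hxv
    have : x * v * x⁻¹ = v := h.symm
    exact mul_inv_eq_iff_eq_mul.mp this
  have h12 : v1 ≠ v2 := by
    intro h
    rw [hv2', hv1] at h
    apply h01
    have h' : x * v * x⁻¹ = x * (x * v * x⁻¹) * x⁻¹ := h
    have := mul_left_cancel (mul_right_cancel h')
    exact this
  have h02 : v ≠ v2 := by
    intro h
    apply h01
    rw [← h] at hv3
    exact hv3.symm
  have h11 : v1 ≠ 1 := by
    intro h
    rw [hv1, conj_eq_one_iff] at h
    exact hne1 h
  have h21 : v2 ≠ 1 := by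
    intro h
    rw [hv2, conj_eq_one_iff] at h
    exact hne1 h
  have hfin : Finite V := Nat.finite_of_card_ne_zero (by rw [hV]; norm_num)
  have := Fintype.ofFinite V
  let S : Finset V := {1, ⟨v, hv⟩, ⟨v1, hv1V⟩, ⟨v2, hv2V⟩}
  have hS : S.card = 4 := by
    rw [Finset.card_insert_of_notMem, Finset.card_insert_of_notMem, Finset.card_insert_of_notMem,
      Finset.card_singleton]
    · simpa using h12
    · simpa using ⟨h01, h02⟩
    · simp only [Finset.mem_insert, Finset.mem_singleton, not_or]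
      refine ⟨fun h => hne1 (congrArg Subtype.val h).symm, fun h => h11 (congrArg Subtype.val h).symm,
        fun h => h21 (congrArg Subtype.val h).symm⟩
  have hSu : S = Finset.univ := by
    apply Finset.eq_univ_of_card
    rw [hS, ← hV, Nat.card_eq_fintype_card]
  have hall : ∀ b ∈ V, b = 1 ∨ b = v ∨ b = v1 ∨ b = v2 := by
    intro b hb
    have hmem : (⟨b, hb⟩ : V) ∈ S := by rw [hSu]; exact Finset.mem_univ _
    simp only [S, Finset.mem_insert, Finset.mem_singleton] at hmem
    rcases hmem with h | h | h | h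
    · left; exact congrArg Subtype.val h
    · right; left; exact congrArg Subtype.val h
    · right; right; left; exact congrArg Subtype.val h
    · right; right; right; exact congrArg Subtype.val h
  refine ⟨?_, hall⟩
  have hfinal : v * v1 = v2 := by
    rcases hall _ (V.mul_mem hv hv1V) with h | h | h | h
    · exfalso
      apply h01
      have h2 := hV2 v1 hv1V
      exact mul_right_cancel (h.trans h2.symm)
    · exfalso
      exact h11 (mul_eq_left.mp h)
    · exfalso
      exact hne1 (mul_eq_right.mp h)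
    · exact h
  change v * v1 * v2 = 1
  rw [hfinal]
  exact hV2 v2 hv2V

/-- the `z`-type elements commuting with `z` and `e` are `z`, `e`, `ze`. -/
theorem three_z [Finite G] (h : Fus z u) {e g : G} (he : IsConj z e) (hez : e * z = z * e) (hne : e ≠ z)
    (hg : IsConj z g) (hgz : g * z = z * g) (hge : e * g = g * e) : g = z ∨ g = e ∨ g = z * e := by
  classical
  let A : Set G := {y | IsConj z y ∧ y * z = z * y}
  let B : Set G := {y | IsConj z y ∧ y * z = z * y ∧ e * y ≠ y * e}
  have hA : A.ncard = 11 := h.card11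
  have hB : B.ncard = 8 := h.card8 e he hez hne
  have hBA : B ⊆ A := fun y hy => ⟨hy.1, hy.2.1⟩
  have hAB : (A \ B).ncard = 3 := by
    rw [Set.ncard_sdiff hBA, hA, hB]
  have hz1 := z_ne h
  have he1 : e ≠ 1 := isConj_ne h he
  have hzz := zz h
  have hee : e * e = 1 := by
    obtain ⟨c, rfl⟩ := isConj_iff.mp he
    calc c * z * c⁻¹ * (c * z * c⁻¹) = c * (z * z) * c⁻¹ := by group
      _ = 1 := by rw [hzz]; group
  have hsub : ({z, e, z * e} : Set G) ⊆ A \ B := by
    intro y hy
    rcases hy with rfl | rfl | rfl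
    · exact ⟨⟨IsConj.refl _, rfl⟩, fun h0 => h0.2.2 hez⟩
    · exact ⟨⟨he, hez⟩, fun h0 => h0.2.2 rfl⟩
    · refine ⟨⟨h.mul_z z e (IsConj.refl z) he hez.symm (Ne.symm hne), ?_⟩, fun h0 => h0.2.2 ?_⟩
      · rw [mul_assoc, hez]
      · rw [← mul_assoc, hez]
  have h3 : ({z, e, z * e} : Set G).ncard = 3 := by
    rw [Set.ncard_eq_toFinset_card', Set.toFinset_insert, Set.toFinset_insert, Set.toFinset_singleton,
      Finset.card_insert_of_notMem, Finset.card_insert_of_notMem, Finset.card_singleton]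
    · simp only [Finset.mem_singleton]
      intro h0
      exact hz1 (mul_eq_right.mp h0.symm)
    · simp only [Finset.mem_insert, Finset.mem_singleton, not_or]
      refine ⟨Ne.symm hne, fun h0 => ?_⟩
      exact he1 (mul_eq_left.mp h0.symm)
  have heq := Set.eq_of_subset_of_ncard_le hsub (by rw [h3, hAB])
  have hgm : g ∈ A \ B := ⟨⟨hg, hgz⟩, fun h0 => h0.2.2 hge⟩
  rw [← heq] at hgm
  exact hgm

/-- The relation `n1` for `x = d` or `x = d⁻¹`. -/
theorem n1_cases [Finite G] (h : Fus z u) (F : Full z u f U V H0)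
    {d y e q : G} (hd3 : d ^ 3 = 1) (hdV : ∀ v ∈ V, d * v * d⁻¹ ∈ V) (hdu : d * u ≠ u * d)
    (hdH : ∀ g ∈ H0, d * g = g * d)
    (hy : y ∈ H0) (he : e = y⁻¹ * z * y) (heU : e ∈ U) (hez : e ≠ z) (he1 : e ≠ 1)
    (hyz : y * z * y⁻¹ = z * e)
    (hq : IsConj z q) (hqz : q * z = z * q) (hqe : q * e * q = e * z) (hqd : q * d = d * q)
    (h24 : Nat.card {t : G // IsConj u t ∧ t * z = z * t ∧ t * e = e * t} = 24) :
    y⁻¹ * (q * u * q) * y = q * (d⁻¹ * u * d) * q ∨ y⁻¹ * (q * u * q) * y = q * (d * u * d⁻¹) * q := by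
  classical
  have hzz := zz h
  have huu := uu h
  have hqq : q * q = 1 := by
    obtain ⟨c, rfl⟩ := isConj_iff.mp hq
    calc c * z * c⁻¹ * (c * z * c⁻¹) = c * (z * z) * c⁻¹ := by group
      _ = 1 := by rw [hzz]; group
  have hqi : q⁻¹ = q := (eq_inv_of_mul_eq_one_left hqq).symm
  have hee : e * e = 1 := sq_U h F heU
  have heE : e ∈ E z u := by
    rcases (F.memU e).mp heU with h1 | ⟨_, h2, h3⟩
    · exact absurd h1 he1
    · exact mem_E.mpr ⟨h2, h3⟩
  have hezc : e * z = z * e := (mem_E.mp heE).1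
  have heu : e * u = u * e := (mem_E.mp heE).2
  have hyu : y * u = u * y := mem_C.mp (F.str.le hy)
  have hdz : d * z = z * d := hdH z (F.U_le F.zU)
  have hdy : d * y = y * d := hdH y hy
  have hz1 := z_ne h
  -- `q` does not commute with `e`
  have hqe' : q * e ≠ e * q := by
    intro h0
    rw [h0, mul_assoc, hqq, mul_one] at hqe
    exact hz1 (mul_eq_left.mp hqe.symm)
  have hUE : ∀ g ∈ U, g ∈ E z u := by
    intro g hg
    rcases (F.memU g).mp hg with h1 | ⟨_, h2, h3⟩
    · rw [h1]; exact one_mem _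
    · exact mem_E.mpr ⟨h2, h3⟩
  have hqu : q * u ≠ u * q := by
    intro h0
    exact hqe' (comm_E h (mem_E.mpr ⟨hqz, h0⟩) heE)
  -- elements of `E \ U` are of `u`-type
  have hutype : ∀ s ∈ E z u, s ∉ U → IsConj u s := by
    intro s hs hsU
    have hs1 : s ≠ 1 := fun h0 => hsU (h0 ▸ one_mem U)
    have hs2 : orderOf s = 2 := orderOf_eq_prime (by rw [pow_two]; exact sq_E h hs) hs1
    rcases h.cover s hs2 with h1 | h1
    · exact absurd ((F.memU s).mpr (Or.inr ⟨h1, (mem_E.mp hs).1, (mem_E.mp hs).2⟩)) hsU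
    · exact h1
  -- `q s q ∉ E` for `s ∈ E \ U`
  have hqs : ∀ s ∈ E z u, s ∉ U → q * s * q ∉ E z u := by
    intro s hs hsU hqsE
    have hst := hutype s hs hsU
    by_cases hc : q * s = s * q
    · -- C(z) ∩ C(s) = E
      have hle : E z u ≤ E z s := by
        intro g hg
        exact mem_E.mpr ⟨(mem_E.mp hg).1, comm_E h hg hs⟩
      have hcard : Nat.card (E z s) ≤ Nat.card (E z u) := by
        obtain ⟨g, h1, h2⟩ := h.pair z s (IsConj.refl z) hst (mem_E.mp hs).1.symm
        have := card_E_conj (z := z) (u := u) g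
        rw [h1, h2] at this
        exact this.le
      have heq := Subgroup.eq_of_le_of_card_ge hle hcard
      have hqE : q ∈ E z u := by
        rw [heq]; exact mem_E.mpr ⟨hqz, hc⟩
      exact hqe' (comm_E h hqE heE)
    · have h1 := h.pow4 q s hq hst hqz (mem_E.mp hs).1 hc
      have h2 : (q * s) ^ 2 = q * s * q * s := by rw [pow_two]; group
      have h3 : (q * s) ^ 2 ∈ E z u := by rw [h2]; exact (E z u).mul_mem hqsE hs
      have h4 : (q * s) ^ 4 = 1 := by
        rw [show (4 : ℕ) = 2 * 2 from rfl, pow_mul, pow_two ((q * s) ^ 2)]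
        exact sq_E h h3
      rw [h4] at h1
      exact hz1 h1.symm
  have huU : u ∉ U := fun hu => F.str.notMem (F.U_le hu)
  set t := y⁻¹ * (q * u * q) * y with ht
  have htz : t * z = z * t := by
    have h1 : (q * u * q) * (z * e) = (z * e) * (q * u * q) := by
      have h2 : q * (z * e) = e * q := by
        rw [← mul_assoc, hqz, mul_assoc]
        have : q * e = e * z * q := by rw [← hqe, mul_assoc, hqq, mul_one]
        rw [this, ← mul_assoc, ← mul_assoc, ← hezc, mul_assoc e z z, hzz, mul_one]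
      have h3 : q * e = (z * e) * q := by
        have : q * e = e * z * q := by rw [← hqe, mul_assoc, hqq, mul_one]
        rw [this, hezc]
      calc (q * u * q) * (z * e) = q * u * (q * (z * e)) := by group
        _ = q * (u * e) * q := by rw [h2]; group
        _ = (q * e) * u * q := by rw [← heu]; group
        _ = (z * e) * (q * u * q) := by rw [h3]; group
    have h4 : z = y⁻¹ * (z * e) * y := by rw [← hyz]; group
    calc t * z = (y⁻¹ * (q * u * q) * y) * (y⁻¹ * (z * e) * y) := by rw [← h4]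
      _ = y⁻¹ * ((q * u * q) * (z * e)) * y := by group
      _ = y⁻¹ * ((z * e) * (q * u * q)) * y := by rw [h1]
      _ = (y⁻¹ * (z * e) * y) * (y⁻¹ * (q * u * q) * y) := by group
      _ = z * t := by rw [← h4]
  have hte : t * e = e * t := by
    have h1 : (q * u * q) * z = z * (q * u * q) := by
      calc (q * u * q) * z = q * u * (q * z) := by group
        _ = q * (u * z) * q := by rw [hqz]; group
        _ = (q * z) * u * q := by rw [← h.comm]; group
        _ = z * (q * u * q) := by rw [hqz]; group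
    calc t * e = y⁻¹ * ((q * u * q) * z) * y := by rw [ht, he]; group
      _ = y⁻¹ * (z * (q * u * q)) * y := by rw [h1]
      _ = e * t := by rw [ht, he]; group
  have htu : IsConj u t := by
    refine isConj_iff.mpr ⟨y⁻¹ * q, ?_⟩
    rw [mul_inv_rev, hqi, inv_inv, ht]; group
  -- the 24 elements
  let S : Set G := {t | IsConj u t ∧ t * z = z * t ∧ t * e = e * t}
  let A1 : Set G := {s | s ∈ E z u ∧ s ∉ U}
  let A2 : Set G := (fun s => q * s * q) '' A1
  have hS : S.ncard = 24 := h24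
  have hA1 : A1.ncard = 12 := by
    have h1 : A1 = (E z u : Set G) \ (U : Set G) := rfl
    rw [h1, Set.ncard_sdiff (fun g hg => hUE g hg)]
    have h2 : (E z u : Set G).ncard = 16 := card_E h
    have h3 : (U : Set G).ncard = 4 := F.cardU
    rw [h2, h3]
  have hinj : Function.Injective (fun s : G => q * s * q) := by
    intro a b hab
    have hab' : q * a * q = q * b * q := hab
    exact mul_left_cancel (mul_right_cancel hab')
  have hA2 : A2.ncard = 12 := by rw [Set.ncard_image_of_injective A1 hinj, hA1]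
  have hA1S : A1 ⊆ S := fun s hs => ⟨hutype s hs.1 hs.2, (mem_E.mp hs.1).1, comm_E h hs.1 heE⟩
  have hA2S : A2 ⊆ S := by
    rintro _ ⟨s, hs, rfl⟩
    have hsz := (mem_E.mp hs.1).1
    refine ⟨(hutype s hs.1 hs.2).trans (isConj_iff.mpr ⟨q, by rw [hqi]⟩), ?_, ?_⟩
    · calc q * s * q * z = q * (s * z) * q := by rw [mul_assoc, hqz]; group
        _ = (q * z) * s * q := by rw [hsz]; group
        _ = z * (q * s * q) := by rw [hqz]; group
    · have h2 : q * e = e * z * q := by rw [← hqe, mul_assoc, hqq, mul_one]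
      have h3 : q * (e * z) = e * q := by
        rw [← mul_assoc, h2, mul_assoc (e * z), hqz, ← mul_assoc, mul_assoc e z z, hzz, mul_one]
      have h4 : s * (e * z) = (e * z) * s :=
        comm_E h hs.1 ((E z u).mul_mem heE (z_mem_E h))
      calc q * s * q * e = q * s * (q * e) := by group
        _ = q * (s * (e * z)) * q := by rw [h2]; group
        _ = (q * (e * z)) * s * q := by rw [h4]; group
        _ = e * (q * s * q) := by rw [h3]; group
  have hdisj : Disjoint A1 A2 := by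
    rw [Set.disjoint_left]
    rintro _ ha ⟨s, hs, rfl⟩
    exact hqs s hs.1 hs.2 ha.1
  have hunion : A1 ∪ A2 = S := by
    apply Set.eq_of_subset_of_ncard_le (Set.union_subset hA1S hA2S)
    rw [Set.ncard_union_eq hdisj, hA1, hA2, hS]
  have htS : t ∈ A1 ∪ A2 := by rw [hunion]; exact ⟨htu, htz, hte⟩
  rcases htS with ht1 | ⟨s, hs, hst⟩
  · -- `t ∈ E`: impossible
    exfalso
    have h1 : y * t * y⁻¹ = q * u * q := by rw [ht]; group
    apply hqs u (u_mem_E h) huU
    rw [← h1, mem_E]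
    constructor
    · have h2 : t * e = e * t := hte
      have h3 : z = y * e * y⁻¹ := by rw [he]; group
      calc y * t * y⁻¹ * z = y * t * y⁻¹ * (y * e * y⁻¹) := by rw [← h3]
        _ = y * (t * e) * y⁻¹ := by group
        _ = y * (e * t) * y⁻¹ := by rw [h2]
        _ = (y * e * y⁻¹) * (y * t * y⁻¹) := by group
        _ = z * (y * t * y⁻¹) := by rw [← h3]
    · have h2 := (mem_E.mp ht1.1).2
      have h3 : y⁻¹ * u = u * y⁻¹ := ((show Commute y u from hyu).inv_left).eq
      calc y * t * y⁻¹ * u = y * t * (y⁻¹ * u) := by group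
        _ = y * (t * u) * y⁻¹ := by rw [h3]; group
        _ = (y * u) * t * y⁻¹ := by rw [h2]; group
        _ = u * (y * t * y⁻¹) := by rw [hyu]; group
  · -- `t = q s q` with `s ∈ E \ U`
    have hst' : q * s * q = t := hst
    have hs' : s = q * t * q := by
      rw [← hst']
      calc s = 1 * s * 1 := by group
        _ = (q * q) * s * (q * q) := by rw [hqq]
        _ = q * (q * s * q) * q := by group
    -- norm of `s`
    have hN : nm d s = 1 := by
      have h1 := (four_cases F.cardV (fun a ha => sq_V h F ha) hd3 hdV F.uV hdu).1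
      have h2 : s = (q * y⁻¹ * q) * u * (q * y⁻¹ * q)⁻¹ := by
        rw [hs', ht, mul_inv_rev, mul_inv_rev, hqi, inv_inv]; group
      have h3 : (q * y⁻¹ * q) * d = d * (q * y⁻¹ * q) := by
        have c1 : Commute q d := hqd
        have c2 : Commute y d := hdy.symm
        exact ((c1.mul_left c2.inv_left).mul_left c1).eq
      rw [h2, nm_conj h3, h1]; group
    obtain ⟨a0, ha0, b0, hb0, hab⟩ := F.mulUV s (mem_E.mp hs.1).1 (mem_E.mp hs.1).2
    have hda0 : d * a0 = a0 * d := hdH a0 (F.U_le ha0)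
    have hs1 : s ≠ 1 := fun h0 => hs.2 (h0 ▸ one_mem U)
    have hb0E : b0 ∈ E z u := mem_E.mpr ⟨((F.memV b0).mp hb0).1, ((F.memV b0).mp hb0).2.1⟩
    -- `nm d (a0 b0) = a0 ^ 3 nm d b0`
    have hdb : ∀ b ∈ V, b ∈ E z u := fun b hb =>
      mem_E.mpr ⟨((F.memV b).mp hb).1, ((F.memV b).mp hb).2.1⟩
    have hNab : nm d s = a0 * nm d b0 := by
      have k1 : d * (a0 * b0) * d⁻¹ = a0 * (d * b0 * d⁻¹) := by
        calc d * (a0 * b0) * d⁻¹ = (d * a0) * b0 * d⁻¹ := by group
          _ = a0 * (d * b0 * d⁻¹) := by rw [hda0]; group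
      have hb1 : d * b0 * d⁻¹ ∈ V := hdV b0 hb0
      have hb2 : d ^ 2 * b0 * (d ^ 2)⁻¹ ∈ V := by
        have : d ^ 2 * b0 * (d ^ 2)⁻¹ = d * (d * b0 * d⁻¹) * d⁻¹ := by rw [pow_two]; group
        rw [this]; exact hdV _ hb1
      have k2 : d ^ 2 * (a0 * b0) * (d ^ 2)⁻¹ = a0 * (d ^ 2 * b0 * (d ^ 2)⁻¹) := by
        have c : d ^ 2 * a0 = a0 * d ^ 2 := ((show Commute d a0 from hda0).pow_left 2).eq
        calc d ^ 2 * (a0 * b0) * (d ^ 2)⁻¹ = (d ^ 2 * a0) * b0 * (d ^ 2)⁻¹ := by group
          _ = a0 * (d ^ 2 * b0 * (d ^ 2)⁻¹) := by rw [c]; group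
      have hUV : ∀ b ∈ V, b * a0 = a0 * b := fun b hb => comm_E h (hdb b hb) (hUE a0 ha0)
      have ha02 : a0 * a0 = 1 := sq_U h F ha0
      unfold nm
      rw [hab, k1, k2]
      calc a0 * b0 * (a0 * (d * b0 * d⁻¹)) * (a0 * (d ^ 2 * b0 * (d ^ 2)⁻¹))
          = a0 * (b0 * a0) * ((d * b0 * d⁻¹) * a0) * (d ^ 2 * b0 * (d ^ 2)⁻¹) := by group
        _ = a0 * (a0 * b0) * (a0 * (d * b0 * d⁻¹)) * (d ^ 2 * b0 * (d ^ 2)⁻¹) := by
            rw [hUV b0 hb0, hUV _ hb1]
        _ = (a0 * a0) * (b0 * a0) * (d * b0 * d⁻¹) * (d ^ 2 * b0 * (d ^ 2)⁻¹) := by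
            simp only [mul_assoc]
        _ = a0 * (b0 * (d * b0 * d⁻¹) * (d ^ 2 * b0 * (d ^ 2)⁻¹)) := by
            rw [ha02, one_mul, hUV b0 hb0]; group
    rw [hNab] at hN
    have hcomm_b0 : d * b0 ≠ b0 * d := by
      intro hc
      have : nm d b0 = b0 := by
        have c1 : d * b0 * d⁻¹ = b0 := by rw [hc]; group
        have c2 : d ^ 2 * b0 * (d ^ 2)⁻¹ = b0 := by
          rw [((show Commute d b0 from hc).pow_left 2).eq]; group
        unfold nm
        rw [c1, c2, sq_V h F hb0, one_mul]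
      rw [this] at hN
      apply hs1
      rw [hab, hN]
    have hNb := (four_cases F.cardV (fun a ha => sq_V h F ha) hd3 hdV hb0 hcomm_b0).1
    rw [hNb, mul_one] at hN
    rw [hN, one_mul] at hab
    -- so `s = b0 ∈ V`
    have hcases := (four_cases F.cardV (fun a ha => sq_V h F ha) hd3 hdV F.uV hdu).2 b0 hb0
    rw [← hst', hab]
    rcases hcases with h1 | h1 | h1 | h1
    · exact absurd (hab.trans h1) hs1
    · -- `b0 = u`
      exfalso
      have h2 : t = q * u * q := by rw [← hst', hab, h1]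
      have h3 : y * (q * u * q) = (q * u * q) * y := by
        have h4 : y⁻¹ * (q * u * q) * y = q * u * q := h2
        calc y * (q * u * q) = y * (y⁻¹ * (q * u * q) * y) := by rw [h4]
          _ = (q * u * q) * y := by group
      have h5 : y * ((q * u * q) * u) = ((q * u * q) * u) * y := by
        have c1 : Commute y (q * u * q) := h3
        have c2 : Commute y u := hyu
        exact (c1.mul_right c2).eq
      have h6 : ((q * u * q) * u) ^ 2 = z := by
        have h7 := h.pow4 q u hq (IsConj.refl u) hqz h.comm.symm hqu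
        rw [← h7, show (4 : ℕ) = 2 * 2 from rfl, pow_mul]
        congr 1
        rw [pow_two]; group
      have h8 : y * z = z * y := by
        rw [← h6]
        exact ((show Commute y ((q * u * q) * u) from h5).pow_right 2).eq
      apply hez
      rw [he, mul_assoc, ← h8]; group
    · right; rw [h1]
    · left
      rw [h1]
      have h2 : d ^ 2 = d⁻¹ := by
        rw [eq_inv_iff_mul_eq_one, ← pow_succ, hd3]
      rw [h2, inv_inv]

/-- Existence of elements satisfying the relations. -/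
theorem exists_rels [Finite G] (h : Fus z u) (F : Full z u f U V H0) (h60 : Nat.card H0 = 60)
    (hG : Nat.card G = 604800)
    (hd : ∃ d : G, orderOf d = 3 ∧ (∀ x ∈ H0, d * x = x * d) ∧ (∀ v ∈ V, d * v * d⁻¹ ∈ V) ∧ d * u ≠ u * d)
    (h24 : ∀ e ∈ U, e ≠ 1 → e ≠ z → Nat.card {t : G // IsConj u t ∧ t * z = z * t ∧ t * e = e * t} = 24) :
    ∃ v x a y l : G, Rels v x a z y l := by
  classical
  obtain ⟨d, hdo, hdH, hdV, hdu⟩ := hd
  have hd3 : d ^ 3 = 1 := by rw [← hdo]; exact pow_orderOf_eq_one d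
  have hd1 : d ≠ 1 := by rintro rfl; simp at hdu
  have hzz := zz h
  have huu := uu h
  have hz1 := z_ne h
  have hu1 := u_ne h
  have hzi : z⁻¹ = z := (eq_inv_of_mul_eq_one_left hzz).symm
  have hzH : z ∈ H0 := F.U_le F.zU
  obtain ⟨φ⟩ := exists_equiv h F h60
  let z0 : H0 := ⟨z, hzH⟩
  have hz0 : φ z0 * φ z0 = 1 := by
    rw [← map_mul]
    have : z0 * z0 = 1 := Subtype.ext hzz
    rw [this, map_one]
  have hz01 : φ z0 ≠ 1 := by
    rw [Ne, map_eq_one_iff φ φ.injective]
    intro h0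
    exact hz1 (congrArg Subtype.val h0)
  obtain ⟨y', l', y3', y1', zy', l2', yl', zl', w5', w1'⟩ := A5More.exists_yl _ hz0 hz01
  let ψ : alternatingGroup (Fin 5) →* G := H0.subtype.comp φ.symm.toMonoidHom
  have hψinj : Function.Injective ψ := H0.subtype_injective.comp φ.symm.injective
  have hψmem : ∀ g, ψ g ∈ H0 := fun g => (φ.symm g).2
  have hψz : ψ (φ z0) = z := by
    change ((φ.symm (φ z0) : H0) : G) = z
    rw [MulEquiv.symm_apply_apply]
  set y := ψ y' with hy
  set l := ψ l' with hl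
  have hyH : y ∈ H0 := hψmem _
  have hlH : l ∈ H0 := hψmem _
  have y3 : y ^ 3 = 1 := by rw [hy, ← map_pow, y3', map_one]
  have zy : (z * y) ^ 3 = 1 := by
    rw [hy]; conv_lhs => rw [← hψz]
    rw [← map_mul, ← map_pow, zy', map_one]
  have l2 : l * l = 1 := by rw [hl, ← map_mul, l2', map_one]
  have yl : (y * l) ^ 2 = 1 := by rw [hy, hl, ← map_mul, ← map_pow, yl', map_one]
  have zl : (z * l) ^ 3 = 1 := by
    rw [hl]; conv_lhs => rw [← hψz]
    rw [← map_mul, ← map_pow, zl', map_one]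
  set w := z * (l * y) with hw
  have hwψ : w = ψ (φ z0 * (l' * y')) := by rw [map_mul, map_mul, hψz]
  have w5 : w ^ 5 = 1 := by rw [hwψ, ← map_pow, w5', map_one]
  have w1 : w ≠ 1 := by
    rw [hwψ]
    intro h0
    exact w1' (hψinj (h0.trans (map_one ψ).symm))
  have hwo : orderOf w = 5 := by
    have : Fact (Nat.Prime 5) := ⟨by norm_num⟩
    exact orderOf_eq_prime w5 w1
  have hwH : w ∈ H0 := H0.mul_mem hzH (H0.mul_mem hlH hyH)
  have ly2 : (l * y) * (l * y) = 1 := by
    have h1 : (l * y) * (l * y) = l * ((y * l) ^ 2) * l⁻¹ := by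
      rw [pow_two]; group
    rw [h1, yl]; group
  have hzw : z * w * z⁻¹ = w⁻¹ := by
    rw [hw, mul_inv_rev, hzi, ← eq_inv_of_mul_eq_one_left ly2, ← mul_assoc z z, hzz, one_mul]
  have huH : ∀ g ∈ H0, u * g = g * u := fun g hg => (mem_C.mp (F.str.le hg)).symm
  have hdz : d * z = z * d := hdH z hzH
  have hdy : d * y = y * d := hdH y hyH
  have hnm := (four_cases F.cardV (fun a ha => sq_V h F ha) hd3 hdV F.uV hdu).1
  have hud : (u * d) ^ 3 = 1 := by
    have h1 : (u * d) ^ 3 = nm d u * d ^ 3 := by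
      unfold nm
      simp only [pow_succ, pow_zero, one_mul]; group
    rw [h1, hnm, hd3, one_mul]
  obtain ⟨φ'⟩ := exists_equiv_CQ h F h60 hG hwH hwo
  obtain ⟨a, a2, da, ua, az, aw, k, hk⟩ := ElemA.exists_a hwo φ' (huH w hwH) (hdH w hwH) hzw hzz huu hu1
    hd3 hd1 hud h.comm.symm hdz
  have hai : a⁻¹ = a := (eq_inv_of_mul_eq_one_left a2).symm
  have aly : a * (l * y) = (l * y) * a := by
    have h1 : l * y = z * w := by rw [hw, ← mul_assoc, hzz, one_mul]
    rw [h1]
    have c1 : Commute a z := az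
    have c2 : Commute a w := aw
    exact (c1.mul_right c2).eq
  -- the element `e`
  set e := y⁻¹ * z * y with he
  have hee : e * e = 1 := by
    calc (y⁻¹ * z * y) * (y⁻¹ * z * y) = y⁻¹ * (z * z) * y := by group
      _ = 1 := by rw [hzz]; group
  have h1 : z * (y * z * y⁻¹) * e = 1 := by
    have h2 : (z * y) ^ 3 = z * (y * z * y⁻¹) * (y ^ 2 * z * y) := by
      simp only [pow_succ, pow_zero, one_mul]; group
    have h3 : y ^ 2 = y⁻¹ := by
      rw [eq_inv_iff_mul_eq_one, ← pow_succ, y3]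
    rw [zy, h3] at h2
    exact h2.symm
  have hei : e⁻¹ = e := (eq_inv_of_mul_eq_one_left hee).symm
  have hyz : y * z * y⁻¹ = z * e := by
    have h2 : z * (y * z * y⁻¹) = e := by
      rw [mul_eq_one_iff_eq_inv] at h1
      rw [h1, hei]
    rw [← h2, ← mul_assoc, hzz, one_mul]
  have hezc : e * z = z * e := by
    have h2 : (z * e) * (z * e) = 1 := by
      rw [← hyz]
      calc y * z * y⁻¹ * (y * z * y⁻¹) = y * (z * z) * y⁻¹ := by group
        _ = 1 := by rw [hzz]; group
    have h3 : (z * e)⁻¹ = z * e := (eq_inv_of_mul_eq_one_left h2).symm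
    rw [mul_inv_rev, hei, hzi] at h3
    exact h3
  have heH : e ∈ H0 := H0.mul_mem (H0.mul_mem (H0.inv_mem hyH) hzH) hyH
  have heU : e ∈ U := F.cap e heH hezc
  have he1 : e ≠ 1 := by
    intro h0
    apply hz1
    have : z = y * e * y⁻¹ := by rw [he]; group
    rw [this, h0]; group
  have hezne : e ≠ z := by
    intro h0
    have h2 : z * y = y * z := by
      have : y⁻¹ * z * y = z := h0
      calc z * y = y * (y⁻¹ * z * y) := by group
        _ = y * z := by rw [this]
    have h3 : (z * y) ^ 3 = z := by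
      rw [(show Commute z y from h2).mul_pow, y3, mul_one, pow_succ, pow_two, hzz, one_mul]
    rw [zy] at h3
    exact hz1 h3.symm
  have heconj : IsConj z e := isConj_iff.mpr ⟨y⁻¹, by rw [inv_inv]⟩
  have hde : d * e = e * d := hdH e heH
  have hue : u * e = e * u := huH e heH
  -- the element `q`
  set q := a * e * a with hq
  have hqconj : IsConj z q := heconj.trans (isConj_iff.mpr ⟨a, by rw [hai]⟩)
  have hqz : q * z = z * q := by
    have c1 : Commute a z := az
    have c2 : Commute e z := hezc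
    exact ((c1.mul_left c2).mul_left c1).eq
  have hqne : q ≠ z := by
    intro h0
    apply hezne
    have h2 : e = a * q * a := by
      rw [hq]
      calc e = 1 * e * 1 := by group
        _ = (a * a) * e * (a * a) := by rw [a2]
        _ = a * (a * e * a) * a := by group
    rw [h2, h0, az, mul_assoc, a2, mul_one]
  have hnotcomm : e * q ≠ q * e := by
    intro h0
    rcases three_z h heconj hezc hezne hqconj hqz h0 with h2 | h2 | h2
    · exact hqne h2
    · -- `a` commutes with `e`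
      have hae : a * e = e * a := by
        have : a * e * a = e := h2
        calc a * e = (a * e * a) * a⁻¹ := by group
          _ = e * a := by rw [this, hai]
      have hwe : (u * d * a) * e = e * (u * d * a) := by
        have c1 : Commute u e := hue
        have c2 : Commute d e := hde
        have c3 : Commute a e := hae
        exact ((c1.mul_left c2).mul_left c3).eq
      have hwz : (u * d * a) * z = z * (u * d * a) := by
        have c1 : Commute u z := h.comm.symm
        have c2 : Commute d z := hdz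
        have c3 : Commute a z := az
        exact ((c1.mul_left c2).mul_left c3).eq
      have hwe' := ((show Commute _ e from hwe).pow_left k).eq
      have hwz' := ((show Commute _ z from hwz).pow_left k).eq
      have h10 := h.card10 _ hk hwz'
      have hle : U ≤ centralizer ({z} : Set G) ⊓ centralizer ({(u * d * a) ^ k} : Set G) := by
        intro g hg
        -- U = {1, z, e, z e}
        have hgE : g * z = z * g := by
          rcases (F.memU g).mp hg with h3 | ⟨_, h3, _⟩
          · rw [h3, one_mul, mul_one]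
          · exact h3
        have hge : e * g = g * e := comm_U h F heU hg
        rw [mem_inf, mem_C, mem_C]
        refine ⟨hgE, ?_⟩
        have hcz : Commute ((u * d * a) ^ k) z := hwz'
        have hce : Commute ((u * d * a) ^ k) e := hwe'
        rcases (F.memU g).mp hg with h3 | ⟨h3, _, _⟩
        · rw [h3, one_mul, mul_one]
        · rcases three_z h heconj hezc hezne h3 hgE hge with h4 | h4 | h4
          · rw [h4]; exact hcz.eq.symm
          · rw [h4]; exact hce.eq.symm
          · rw [h4]; exact (hcz.mul_right hce).eq.symm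
      have h4 : Nat.card U ∣ 10 := by rw [← h10]; exact card_dvd_of_le hle
      rw [F.cardU] at h4
      omega
    · -- `q = z e`
      have hne : z * e ≠ e := fun h3 => hz1 (mul_eq_right.mp h3)
      have haea : a * e * a = z * e := h2
      have h3 : (u * a) * e * (u * a)⁻¹ = z * e := by
        have hui : u⁻¹ = u := (eq_inv_of_mul_eq_one_left huu).symm
        rw [mul_inv_rev, hai, hui]
        calc u * a * e * (a * u) = u * (a * e * a) * u := by group
          _ = u * (z * e) * u := by rw [haea]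
          _ = (z * e) * (u * u) := by
              rw [← mul_assoc u z e, ← h.comm, mul_assoc z u e, hue]; group
          _ = z * e := by rw [huu, mul_one]
      have h4 : (u * a) * z * (u * a)⁻¹ = z := by
        have c : Commute (u * a) z := (show Commute u z from h.comm.symm).mul_left az
        rw [c.eq]; group
      have h5 : (u * a) ^ 3 * e * ((u * a) ^ 3)⁻¹ = z * (z * (z * e)) := by
        generalize u * a = g at h3 h4
        calc g ^ 3 * e * (g ^ 3)⁻¹ = g * (g * (g * e * g⁻¹) * g⁻¹) * g⁻¹ := by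
              simp only [pow_succ, pow_zero, one_mul]; group
          _ = g * (g * (z * e) * g⁻¹) * g⁻¹ := by rw [h3]
          _ = g * ((g * z * g⁻¹) * (g * e * g⁻¹)) * g⁻¹ := by group
          _ = g * (z * (z * e)) * g⁻¹ := by rw [h3, h4]
          _ = (g * z * g⁻¹) * ((g * z * g⁻¹) * (g * e * g⁻¹)) := by group
          _ = z * (z * (z * e)) := by rw [h3, h4]
      rw [ua] at h5
      rw [← mul_assoc z z, hzz, one_mul] at h5
      apply hne
      simpa using h5.symm
  have heq4 : (e * q) ^ 2 = z :=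
    h.sq_z e q heconj hqconj hezc hqz hnotcomm
  have hqeq : q * e * q = e * z := by
    have h2 : e * q * e * q = z := by rw [← heq4, pow_two]; group
    calc q * e * q = (e * e) * (q * e * q) := by rw [hee, one_mul]
      _ = e * (e * q * e * q) := by group
      _ = e * z := by rw [h2]
  -- `q` commutes with `d`
  have hada : a * d * a = d⁻¹ := by
    have : d * (a * d * a) = 1 := by
      rw [← da, pow_two]; group
    exact (inv_eq_of_mul_eq_one_right this).symm
  have hqd : q * d = d * q := by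
    have h2 : a * d = d⁻¹ * a := by rw [← hada, mul_assoc, a2, mul_one]
    have h3 : a * d⁻¹ = d * a := by
      rw [← hada, ← mul_assoc, ← mul_assoc, a2, one_mul]
    calc q * d = a * e * (a * d) := by rw [hq]; group
      _ = a * (e * d⁻¹) * a := by rw [h2]; group
      _ = (a * d⁻¹) * e * a := by
          rw [((show Commute e d from hde.symm).inv_right).eq]; group
      _ = d * q := by rw [h3, hq]; group
  have hn1 := n1_cases h F hd3 hdV hdu hdH hyH he heU hezne he1 hyz hqconj hqz hqeq hqd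
    (h24 e heU he1 hezne)
  have hdv : d⁻¹ ^ 3 = 1 := by rw [inv_pow, hd3, inv_one]
  have hcommon : ∀ x : G, x ^ 3 = 1 → (u * x) ^ 3 = 1 → (x * a) ^ 2 = 1 → x * z = z * x → x * y = y * x →
      x * l = l * x → y⁻¹ * (q * u * q) * y = q * (x⁻¹ * u * x) * q → Rels u x a z y l := by
    intro x hx3 hux hxa hxz hxy hxl hxn
    exact ⟨huu, hx3, hux, a2, hxa, ua, hzz, y3, zy, l2, yl, zl, h.comm.symm, huH y hyH, huH l hlH,
      hxz, hxy, hxl, az, aly, heq4, hxn⟩
  have hdl : d * l = l * d := hdH l hlH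
  rcases hn1 with h2 | h2
  · exact ⟨u, d, a, y, l, hcommon d hd3 hud da hdz hdy hdl h2⟩
  · refine ⟨u, d⁻¹, a, y, l, hcommon d⁻¹ hdv ?_ ?_ ?_ ?_ ?_ ?_⟩
    · -- `(u d⁻¹)^3 = 1`
      have hui : u⁻¹ = u := (eq_inv_of_mul_eq_one_left huu).symm
      have h3 : (d * u) ^ 3 = 1 := by
        have : (d * u) ^ 3 = d * ((u * d) ^ 3) * d⁻¹ := by
          simp only [pow_succ, pow_zero, one_mul]; group
        rw [this, hud]; group
      have h4 : (u * d⁻¹) ^ 3 = ((d * u) ^ 3)⁻¹ := by
        rw [← inv_pow, mul_inv_rev, hui]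
      rw [h4, h3, inv_one]
    · have h3 : (d⁻¹ * a) ^ 2 = ((a * d) ^ 2)⁻¹ := by
        rw [← inv_pow, mul_inv_rev, hai]
      have h4 : (a * d) ^ 2 = 1 := by
        have : (a * d) ^ 2 = a * ((d * a) ^ 2) * a⁻¹ := by
          simp only [pow_two]; group
        rw [this, da]; group
      rw [h3, h4, inv_one]
    · exact ((show Commute d z from hdz).inv_left).eq
    · exact ((show Commute d y from hdy).inv_left).eq
    · exact ((show Commute d l from hdl).inv_left).eq
    · rw [inv_inv]; exact h2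

end Cfsg.Agent.J2Type.GRels
end

-- part: J2Type/ThirdFacts
section
/-!
Finite facts about the alternating group of degree 5.
-/

set_option autoImplicit false

namespace Cfsg.Agent.J2Type.ThirdFacts

theorem prod2 : ∀ x : alternatingGroup (Fin 5), ∃ i j : alternatingGroup (Fin 5),
    i * i = 1 ∧ i ≠ 1 ∧ j * j = 1 ∧ j ≠ 1 ∧ x = i * j := by
  decide +kernel

theorem inv5 : ∀ i : alternatingGroup (Fin 5), i * i = 1 → i ≠ 1 →
    (Finset.univ.filter fun x : alternatingGroup (Fin 5) => x ^ 5 = 1 ∧ x ≠ 1 ∧ i * x = x⁻¹ * i).card = 8 := by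
  decide +kernel

end Cfsg.Agent.J2Type.ThirdFacts
end

-- part: J2Type/Third
section
/-!
Third element: an element `d` of order 3 of `C(z)` centralising `H0 ≅ A₅` and permuting `V#`
transitively; and the count of `u`-type involutions commuting with a line.
-/

set_option autoImplicit false

namespace Cfsg.Agent.J2Type.Third

open Subgroup Cfsg.Agent.J2Type.Base Cfsg.Agent.J2Type.CentU Cfsg.Agent.J2Type.FourSelfCent
  Cfsg.Agent.J2Type.ThirdFacts

variable {G : Type*} [Group G]

/-- fixed points modulo 3 -/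
theorem modEq_three [Finite G] {d : G} (hd : d ^ 3 = 1) (p : G → Prop) (hp : ∀ x, p x → p (d * x * d⁻¹)) :
    Nat.card {x : G // p x} ≡ Nat.card {x : G // p x ∧ d * x = x * d} [MOD 3] := by
  classical
  have hp' : ∀ n ∈ zpowers d, ∀ e, p e → p (n * e * n⁻¹) := by
    intro n hn
    obtain ⟨k, rfl⟩ := (mem_powers_iff_mem_zpowers (x := d)).mpr hn
    intro e he
    dsimp only
    induction k with
    | zero => simpa using he
    | succ k ih =>
      have h1 := hp _ (ih ⟨k, by simp⟩)
      have : d * (d ^ k * e * (d ^ k)⁻¹) * d⁻¹ = d ^ (k + 1) * e * (d ^ (k + 1))⁻¹ := by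
        rw [pow_succ']; group
      rw [this] at h1; exact h1
  let _ : MulAction (zpowers d) {x : G // p x} := conjActS (zpowers d) p hp'
  have hP : IsPGroup 3 (zpowers d) := by
    intro g
    refine ⟨1, ?_⟩
    obtain ⟨k, hk⟩ := mem_zpowers_iff.mp g.2
    apply Subtype.ext
    push_cast
    rw [← hk, ← zpow_natCast, ← zpow_mul, mul_comm, zpow_mul]
    norm_num
    rw [hd, one_zpow]
  have : Fact (Nat.Prime 3) := ⟨Nat.prime_three⟩
  have h1 := hP.card_modEq_card_fixedPoints {x : G // p x}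
  refine h1.trans ?_
  have e : (MulAction.fixedPoints (zpowers d) {x : G // p x}) ≃ {x : G // p x ∧ d * x = x * d} := by
    refine ⟨fun x => ⟨x.1.1, x.1.2, ?_⟩, fun x => ⟨⟨x.1, x.2.1⟩, ?_⟩, fun x => ?_, fun x => ?_⟩
    · have h2 := x.2 ⟨d, mem_zpowers d⟩
      have h3 : d * (x.1.1 : G) * d⁻¹ = x.1.1 := congrArg Subtype.val h2
      exact mul_inv_eq_iff_eq_mul.mp h3
    · intro n
      apply Subtype.ext
      change (n : G) * x.1 * (n : G)⁻¹ = x.1
      obtain ⟨k, hk⟩ := mem_zpowers_iff.mp n.2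
      rw [← hk]
      have : Commute d x.1 := x.2.2
      rw [(this.zpow_left k).eq]; group
    · rfl
    · rfl
  rw [Nat.card_congr e]

variable {z u f : G} {U V H0 : Subgroup G}

section exd

variable [Finite G] (h : Fus z u) (F : Full z u f U V H0) (h60 : Nat.card H0 = 60)

include h F h60 in
theorem conj_cent {g : G} (hg : g * u * g⁻¹ ∈ V) {x : G} (hx : x * u = u * x) :
    (g * x * g⁻¹) * u = u * (g * x * g⁻¹) := by
  have hne : g * u * g⁻¹ ≠ 1 := by
    intro h1
    apply u_ne h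
    have : g⁻¹ * (g * u * g⁻¹) * g = u := by group
    rw [← this, h1]; group
  have h2 : g * x * g⁻¹ ∈ centralizer ({g * u * g⁻¹} : Set G) := mem_C.mpr (conj_comm_iff.mpr hx)
  rw [Cent5.centralizer_eq h F h60 hg hne] at h2
  exact mem_C.mp h2

include h F h60 in
theorem conj_V {g : G} (hg : g * u * g⁻¹ ∈ V) {x : G} (hx : x ∈ V) : g * x * g⁻¹ ∈ V := by
  -- `g` normalises `C(u)`
  have hinv : ∀ y, y * u = u * y → (g⁻¹ * y * g) * u = u * (g⁻¹ * y * g) := by
    intro y hy
    have h1 : ∀ y ∈ centralizer ({u} : Set G), g * y * g⁻¹ ∈ centralizer ({u} : Set G) :=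
      fun y hy => mem_C.mpr (conj_cent h F h60 hg (mem_C.mp hy))
    have hmap : (centralizer ({u} : Set G)).map (MulAut.conj g).toMonoidHom = centralizer ({u} : Set G) := by
      refine eq_of_le_of_card_ge ?_ ?_
      · rintro _ ⟨t, ht, rfl⟩
        exact h1 t ht
      · rw [Subgroup.card_map_of_injective (MulAut.conj g).injective]
    have h2 : y ∈ (centralizer ({u} : Set G)).map (MulAut.conj g).toMonoidHom := by
      rw [hmap]; exact mem_C.mpr hy
    obtain ⟨t, ht, rfl⟩ := h2
    have : g⁻¹ * ((MulAut.conj g).toMonoidHom t) * g = t := by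
      change g⁻¹ * (g * t * g⁻¹) * g = t
      group
    rw [this]; exact mem_C.mp ht
  have hcomm : ∀ y, y * u = u * y → (g * x * g⁻¹) * y = y * (g * x * g⁻¹) := by
    intro y hy
    by_cases hx1 : x = 1
    · subst hx1; group
    have h3 : g⁻¹ * y * g ∈ centralizer ({x} : Set G) := by
      rw [Cent5.centralizer_eq h F h60 hx hx1]
      exact mem_C.mpr (hinv y hy)
    have h4 := mem_C.mp h3
    calc (g * x * g⁻¹) * y = g * (x * (g⁻¹ * y * g)) * g⁻¹ := by group
      _ = g * ((g⁻¹ * y * g) * x) * g⁻¹ := by rw [h4]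
      _ = y * (g * x * g⁻¹) := by group
  rw [F.memV]
  exact ⟨hcomm z h.comm, hcomm u rfl, hcomm f (mem_C.mp (F.str.le F.f_mem))⟩

include h F h60 in
theorem conj_H0 {g : G} (hg : g * u * g⁻¹ ∈ V) {x : G} (hx : x ∈ H0) : g * x * g⁻¹ ∈ H0 := by
  obtain ⟨e⟩ := Cent5.exists_equiv h F h60
  obtain ⟨i, j, hi, hi1, hj, hj1, hij⟩ := prod2 (e ⟨x, hx⟩)
  have key : ∀ i : alternatingGroup (Fin 5), i * i = 1 → i ≠ 1 → g * ((e.symm i : H0) : G) * g⁻¹ ∈ H0 := by
    intro i hi hi1
    have h1 : e.symm i * e.symm i = 1 := by rw [← map_mul, hi, map_one]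
    have h2 : e.symm i ≠ 1 := by
      intro h2; apply hi1
      rw [← e.apply_symm_apply i, h2, map_one]
    have h3 : orderOf ((e.symm i : H0) : G) = 2 := by
      apply orderOf_eq_prime
      · rw [pow_two]; exact congrArg Subtype.val h1
      · intro h4; exact h2 (Subtype.ext h4)
    have h4 := F.str.invol _ (e.symm i).2 h3
    refine F.str.z_mem _ (isConj_conj h4 g) ?_
    exact conj_cent h F h60 hg (mem_C.mp (F.str.le (e.symm i).2))
  have hx' : x = ((e.symm i : H0) : G) * ((e.symm j : H0) : G) := by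
    have : (⟨x, hx⟩ : H0) = e.symm i * e.symm j := by
      rw [← map_mul, ← hij, MulEquiv.symm_apply_apply]
    exact congrArg Subtype.val this
  have : g * x * g⁻¹ = (g * ((e.symm i : H0) : G) * g⁻¹) * (g * ((e.symm j : H0) : G) * g⁻¹) := by
    rw [hx']; group
  rw [this]
  exact H0.mul_mem (key i hi hi1) (key j hj hj1)

include h F in
omit [Finite G] in
theorem z_mem_H0 : z ∈ H0 := F.str.z_mem z (IsConj.refl z) h.comm

include h F h60 in
theorem card_inv5 : Nat.card {x : G // x ∈ H0 ∧ x ^ 5 = 1 ∧ x ≠ 1 ∧ z * x = x⁻¹ * z} = 8 := by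
  classical
  obtain ⟨e⟩ := Cent5.exists_equiv h F h60
  have hz0 := z_mem_H0 h F
  have h1 : e ⟨z, hz0⟩ * e ⟨z, hz0⟩ = 1 := by
    rw [← map_mul]
    have : (⟨z, hz0⟩ : H0) * ⟨z, hz0⟩ = 1 := Subtype.ext (zz h)
    rw [this, map_one]
  have h2 : e ⟨z, hz0⟩ ≠ 1 := by
    intro h2
    rw [map_eq_one_iff e e.injective] at h2
    exact z_ne h (congrArg Subtype.val h2)
  have h3 := inv5 _ h1 h2
  have h4 : Fintype.card {x : alternatingGroup (Fin 5) // x ^ 5 = 1 ∧ x ≠ 1 ∧
      e ⟨z, hz0⟩ * x = x⁻¹ * e ⟨z, hz0⟩} = 8 := by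
    rw [Fintype.card_subtype]; exact h3
  rw [← h4, ← Nat.card_eq_fintype_card]
  refine Nat.card_congr ⟨fun x => ⟨e ⟨x.1, x.2.1⟩, ?_, ?_, ?_⟩,
    fun x => ⟨(e.symm x.1 : H0), (e.symm x.1).2, ?_, ?_, ?_⟩, ?_, ?_⟩
  · have h5 : (⟨x.1, x.2.1⟩ : H0) ^ 5 = 1 := Subtype.ext x.2.2.1
    rw [← map_pow, h5, map_one]
  · rw [Ne, map_eq_one_iff e e.injective]
    intro h5
    exact x.2.2.2.1 (congrArg Subtype.val h5)
  · have h5 : (⟨z, hz0⟩ : H0) * ⟨x.1, x.2.1⟩ = (⟨x.1, x.2.1⟩ : H0)⁻¹ * ⟨z, hz0⟩ := Subtype.ext x.2.2.2.2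
    rw [← map_mul, h5, map_mul, map_inv]
  · have : (e.symm x.1) ^ 5 = 1 := by rw [← map_pow, x.2.1, map_one]
    exact congrArg Subtype.val this
  · intro h5
    apply x.2.2.1
    have : e.symm x.1 = 1 := Subtype.ext h5
    rw [← e.apply_symm_apply x.1, this, map_one]
  · have : (⟨z, hz0⟩ : H0) * e.symm x.1 = (e.symm x.1)⁻¹ * ⟨z, hz0⟩ := by
      apply e.injective
      rw [map_mul, map_mul, map_inv, MulEquiv.apply_symm_apply]
      exact x.2.2.2
    exact congrArg Subtype.val this
  · intro x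
    apply Subtype.ext
    simp
  · intro x
    apply Subtype.ext
    simp

include h F h60 in
theorem exists_d : ∃ d : G, orderOf d = 3 ∧ d * z = z * d ∧ (∀ x ∈ H0, d * x = x * d) ∧
    (∀ v ∈ V, d * v * d⁻¹ ∈ V) ∧ (∀ v ∈ V, v ≠ 1 → d * v ≠ v * d) := by
  classical
  -- transitivity
  let p : G → Prop := fun x => x ∈ V ∧ x ≠ 1
  let N1 : Subgroup G := centralizer ({z} : Set G) ⊓ normalizer (V : Set G)
  let _ : MulAction N1 {x : G // p x} := conjActS N1 p (by
    intro n hn e he
    refine ⟨(mem_normalizer_iff.mp (mem_inf.mp hn).2 e).mp he.1, ?_⟩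
    intro h1
    apply he.2
    have : n⁻¹ * (n * e * n⁻¹) * n = e := by group
    rw [← this, h1]; group)
  have hg : ∀ v ∈ V, v ≠ 1 → ∃ g ∈ N1, g * u * g⁻¹ = v := by
    intro v hv hv1
    obtain ⟨g, h1, h2⟩ := h.pair z v (IsConj.refl z) (Cent5.isConj_of_mem_V h F hv hv1)
      ((F.memV v).mp hv).1.symm
    refine ⟨g, mem_inf.mpr ⟨mem_C.mpr (mul_inv_eq_iff_eq_mul.mp h1), ?_⟩, h2⟩
    have h3 : ∀ x ∈ V, g * x * g⁻¹ ∈ V := fun x hx => conj_V h F h60 (by rw [h2]; exact hv) hx
    have hmap : V.map (MulAut.conj g).toMonoidHom = V := by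
      refine eq_of_le_of_card_ge ?_ ?_
      · rintro _ ⟨t, ht, rfl⟩
        exact h3 t ht
      · rw [Subgroup.card_map_of_injective (MulAut.conj g).injective]
    rw [mem_normalizer_iff]
    intro t
    constructor
    · exact h3 t
    · intro ht
      rw [← hmap] at ht
      obtain ⟨t', ht', h'⟩ := ht
      have : t' = t := (MulAut.conj g).injective h'
      rw [← this]; exact ht'
  let u0 : {x : G // p x} := ⟨u, F.uV, u_ne h⟩
  have : MulAction.IsPretransitive N1 {x : G // p x} := by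
    have htrans : ∀ x : {x : G // p x}, ∃ n : N1, n • u0 = x := by
      intro x
      obtain ⟨g, h1, h2⟩ := hg x.1 x.2.1 x.2.2
      exact ⟨⟨g, h1⟩, Subtype.ext h2⟩
    constructor
    intro x y
    obtain ⟨n, hn⟩ := htrans x
    obtain ⟨m, hm⟩ := htrans y
    exact ⟨m * n⁻¹, by rw [← hn, mul_smul, inv_smul_smul, hm]⟩
  have hV3 : Nat.card {x : G // p x} = 3 := by
    have e : V ≃ Option {x : G // p x} := by
      refine ⟨fun x => if hx : (x : G) = 1 then none else some ⟨x, x.2, hx⟩,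
        fun o => match o with
          | none => ⟨1, one_mem _⟩
          | some x => ⟨x, x.2.1⟩, ?_, ?_⟩
      · intro x
        by_cases hx : (x : G) = 1
        · apply Subtype.ext; simp [hx]
        · apply Subtype.ext; simp [hx]
      · intro o
        cases o with
        | none => simp
        | some x =>
          have : (x : G) ≠ 1 := x.2.2
          simp [this]
    have h4 := F.cardV
    rw [Nat.card_congr e, Finite.card_option] at h4
    omega
  have h3 : 3 ∣ Nat.card N1 := by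
    have h1 : (MulAction.stabilizer N1 u0).index = 3 := by
      rw [MulAction.index_stabilizer_of_transitive]
      exact hV3
    rw [← h1]
    exact Subgroup.index_dvd_card _
  have : Fact (Nat.Prime 3) := ⟨Nat.prime_three⟩
  obtain ⟨d, hd⟩ := exists_prime_orderOf_dvd_card' 3 h3
  have hdN := d.2
  have hd3 : orderOf (d : G) = 3 := by rw [orderOf_coe]; exact hd
  generalize (d : G) = d at hdN hd3
  have hdz : d * z = z * d := mem_C.mp (mem_inf.mp hdN).1
  have hdV : ∀ v ∈ V, d * v * d⁻¹ ∈ V := fun v hv =>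
    (mem_normalizer_iff.mp (mem_inf.mp hdN).2 v).mp hv
  have hdd : d ^ 3 = 1 := by rw [← hd3]; exact pow_orderOf_eq_one d
  have hdu : d * u * d⁻¹ ∈ V := hdV u F.uV
  have hH : ∀ x ∈ H0, d * x * d⁻¹ ∈ H0 := fun x hx => conj_H0 h F h60 hdu hx
  have hnu : ∀ v ∈ V, v ≠ 1 → d * v ≠ v * d := by
    intro v hv hv1 h1
    have h2 : d ∈ centralizer ({v} : Set G) := mem_C.mpr h1
    rw [Cent5.centralizer_eq h F h60 hv hv1] at h2
    have h4 := h.sqE d hdz (mem_C.mp h2)
    have h5 : orderOf d ∣ 2 := orderOf_dvd_of_pow_eq_one (by rw [pow_two, h4])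
    rw [hd3] at h5
    omega
  -- `K = C_{H0}(d)`
  set K : Subgroup G := H0 ⊓ centralizer ({d} : Set G) with hK
  have hKH : K ≤ H0 := inf_le_left
  have hmemK : ∀ x, x ∈ K ↔ x ∈ H0 ∧ d * x = x * d := by
    intro x
    rw [hK, mem_inf, mem_centralizer_singleton_iff]
    exact ⟨fun h => ⟨h.1, h.2.symm⟩, fun h => ⟨h.1, h.2.symm⟩⟩
  -- 3 divides
  have hK3 : 3 ∣ Nat.card K := by
    have h1 := modEq_three hdd (fun x => x ∈ H0) hH
    have h2 : Nat.card {x : G // x ∈ H0} = 60 := h60
    have h4 : Nat.card {x : G // x ∈ H0 ∧ d * x = x * d} = Nat.card K :=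
      Nat.card_congr (Equiv.subtypeEquivRight fun x => (hmemK x).symm)
    rw [h2, h4] at h1
    have : Nat.card K % 3 = 0 := by rw [← h1]
    omega
  -- 4 divides
  have hU : ∀ x ∈ U, d * x = x * d := by
    have hUc : ∀ x ∈ U, d * x * d⁻¹ ∈ U := by
      intro x hx
      rw [F.memU] at hx ⊢
      rcases hx with rfl | ⟨h1, h2, h3⟩
      · left; group
      · right
        refine ⟨isConj_conj h1 d, ?_, conj_cent h F h60 hdu h3⟩
        have hz : d * z * d⁻¹ = z := by rw [hdz]; group
        have h4 := (conj_comm_iff (g := d)).mpr h2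
        rw [hz] at h4; exact h4
    have h1 := modEq_three hdd (fun x => x ∈ U) hUc
    have h2 : Nat.card {x : G // x ∈ U} = 4 := F.cardU
    rw [h2] at h1
    have h4 : Nat.card {x : G // x ∈ U ∧ d * x = x * d} = Nat.card (U ⊓ centralizer ({d} : Set G) : Subgroup G) := by
      refine Nat.card_congr (Equiv.subtypeEquivRight fun x => ?_)
      rw [mem_inf, mem_centralizer_singleton_iff]
      exact ⟨fun h => ⟨h.1, h.2.symm⟩, fun h => ⟨h.1, h.2.symm⟩⟩
    rw [h4] at h1
    have h5 : Nat.card (U ⊓ centralizer ({d} : Set G) : Subgroup G) ∣ 4 := by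
      rw [← F.cardU]; exact card_dvd_of_le inf_le_left
    have h6 : 2 ∣ Nat.card (U ⊓ centralizer ({d} : Set G) : Subgroup G) := by
      have h7 : (⟨z, mem_inf.mpr ⟨F.zU, mem_C.mpr hdz.symm⟩⟩ :
          (U ⊓ centralizer ({d} : Set G) : Subgroup G)) ^ 2 = 1 := by
        apply Subtype.ext
        push_cast
        rw [pow_two]; exact zz h
      have h8 := orderOf_eq_prime h7 (fun h9 => z_ne h (congrArg Subtype.val h9))
      rw [← h8]; exact orderOf_dvd_natCard _
    have h7 : Nat.card (U ⊓ centralizer ({d} : Set G) : Subgroup G) % 3 = 1 := by rw [← h1]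
    have h8 : Nat.card (U ⊓ centralizer ({d} : Set G) : Subgroup G) = 4 := by
      have h9 := Nat.le_of_dvd (by norm_num) h5
      omega
    have h9 : U ⊓ centralizer ({d} : Set G) = U := eq_of_le_of_card_ge inf_le_left (by rw [h8, F.cardU])
    intro x hx
    rw [← h9] at hx
    exact (mem_C.mp (mem_inf.mp hx).2).symm
  have hK4 : 4 ∣ Nat.card K := by
    rw [← F.cardU]
    refine card_dvd_of_le fun x hx => (hmemK x).mpr ⟨F.U_le hx, hU x hx⟩
  -- 5 divides
  have hK5 : 5 ∣ Nat.card K := by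
    have h1 := modEq_three hdd (fun x => x ∈ H0 ∧ x ^ 5 = 1 ∧ x ≠ 1 ∧ z * x = x⁻¹ * z) (by
      rintro x ⟨a1, a2, a3, a4⟩
      refine ⟨hH x a1, ?_, ?_, ?_⟩
      · rw [conj_pow, a2]; group
      · intro h1; apply a3
        have : d⁻¹ * (d * x * d⁻¹) * d = x := by group
        rw [← this, h1]; group
      · have hz : d⁻¹ * z * d = z := by rw [mul_assoc, ← hdz]; group
        calc z * (d * x * d⁻¹) = d * ((d⁻¹ * z * d) * x) * d⁻¹ := by group
          _ = d * (x⁻¹ * (d⁻¹ * z * d)) * d⁻¹ := by rw [hz, a4]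
          _ = (d * x * d⁻¹)⁻¹ * z := by group)
    rw [card_inv5 h F h60] at h1
    have h2 : 0 < Nat.card {x : G // (x ∈ H0 ∧ x ^ 5 = 1 ∧ x ≠ 1 ∧ z * x = x⁻¹ * z) ∧ d * x = x * d} := by
      by_contra h3
      have h4 : Nat.card {x : G // (x ∈ H0 ∧ x ^ 5 = 1 ∧ x ≠ 1 ∧ z * x = x⁻¹ * z) ∧ d * x = x * d} = 0 := by
        omega
      rw [h4] at h1
      exact absurd h1 (by decide)
    obtain ⟨⟨x, ⟨a1, a2, a3, -⟩, a5⟩⟩ := (Nat.card_pos_iff.mp h2).1
    have : Fact (Nat.Prime 5) := ⟨Nat.prime_five⟩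
    have h5 : orderOf x = 5 := orderOf_eq_prime a2 a3
    rw [← h5, ← orderOf_mk x ((hmemK x).mpr ⟨a1, a5⟩)]
    exact orderOf_dvd_natCard _
  have hK60 : 60 ∣ Nat.card K := by
    have h1 : Nat.lcm (Nat.lcm 3 4) 5 ∣ Nat.card K := Nat.lcm_dvd (Nat.lcm_dvd hK3 hK4) hK5
    exact h1
  have hKeq : K = H0 := eq_of_le_of_card_ge hKH (by rw [h60]; exact Nat.le_of_dvd Nat.card_pos hK60)
  refine ⟨d, hd3, hdz, ?_, hdV, hnu⟩
  intro x hx
  rw [← hKeq] at hx
  exact ((hmemK x).mp hx).2

include h F h60 in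
/-- The form used by `GRels.exists_rels`. -/
theorem exists_d' : ∃ d : G, orderOf d = 3 ∧ (∀ x ∈ H0, d * x = x * d) ∧ (∀ v ∈ V, d * v * d⁻¹ ∈ V) ∧
    d * u ≠ u * d := by
  obtain ⟨d, h1, -, h2, h3, h4⟩ := exists_d h F h60
  exact ⟨d, h1, h2, h3, h4 u F.uV (u_ne h)⟩

end exd

end Cfsg.Agent.J2Type.Third
end

-- part: J2Type/ThirdCount
section
/-!
In a group of Hall–Janko type: a `z`-type involution `e ≠ z` of `C(z)` commutes with exactly 24
`u`-type involutions of `C(z)`.
-/

set_option autoImplicit false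

namespace Cfsg.Agent.J2Type.Third

open Subgroup Cfsg.Agent.J2Type.Base Cfsg.Agent.J2Type.CentU Cfsg.Agent.J2Type.Order

variable {G : Type*} [Group G] [Finite G] {z u : G}

omit [Finite G] in
/-- no nontrivial power of an element of order 5 of `C(z)` commutes with a `z`-type `e ≠ z` -/
theorem dvd_of_comm (h : Fus z u) {w : G} (hw : orderOf w = 5) (hwz : w * z = z * w) {e : G}
    (he : IsConj z e) (hez : e * z = z * e) (hne : e ≠ z) {m : ℤ} (hm : w ^ m * e = e * w ^ m) :
    (5 : ℤ) ∣ m := by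
  by_contra hnd
  have hw5 : w ^ 5 = 1 := by rw [← hw]; exact pow_orderOf_eq_one w
  have hcz : w ^ m * z = z * w ^ m := ((show Commute w z from hwz).zpow_left m).eq
  have h5 : orderOf (w ^ m) = 5 := by
    have : Fact (Nat.Prime 5) := ⟨Nat.prime_five⟩
    apply orderOf_eq_prime
    · rw [← zpow_natCast, ← zpow_mul, mul_comm, zpow_mul]
      norm_num
      rw [hw5, one_zpow]
    · intro h1
      apply hnd
      rw [← orderOf_dvd_iff_zpow_eq_one, hw] at h1
      exact_mod_cast h1
  have h10 := h.card10 (w ^ m) h5 hcz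
  set H : Subgroup G := centralizer ({z} : Set G) ⊓ centralizer ({w ^ m} : Set G) with hH
  have hzH : z ∈ H := mem_inf.mpr ⟨mem_C.mpr rfl, mem_C.mpr hcz.symm⟩
  have heH : e ∈ H := mem_inf.mpr ⟨mem_C.mpr hez, mem_C.mpr hm.symm⟩
  have hle : zpowers z ≤ H := zpowers_le.mpr hzH
  have hnorm : ((zpowers z).subgroupOf H).Normal := by
    constructor
    intro n hn g
    rw [mem_subgroupOf] at hn ⊢
    obtain ⟨k, hk⟩ := mem_zpowers_iff.mp hn
    have hg : (g : G) * z = z * g := mem_C.mp (mem_inf.mp g.2).1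
    push_cast
    rw [← hk, ((show Commute (g : G) z from hg).zpow_right k).eq]
    rw [mem_zpowers_iff]
    exact ⟨k, by group⟩
  have hidx : ((zpowers z).subgroupOf H).index = 5 := by
    have h1 := card_mul_index ((zpowers z).subgroupOf H)
    rw [Nat.card_congr (subgroupOfEquivOfLe hle).toEquiv, Nat.card_zpowers, h.hz, h10] at h1
    omega
  have h1 := pow_index_mem (H := (zpowers z).subgroupOf H) ⟨e, heH⟩
  rw [hidx, mem_subgroupOf] at h1
  have hee : e * e = 1 := mul_self_of_orderOf ((orderOf_of_isConj he).trans h.hz)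
  have he5 : ((⟨e, heH⟩ ^ 5 : H) : G) = e := by
    push_cast
    calc e ^ 5 = (e * e) * (e * e) * e := by simp only [pow_succ, pow_zero, one_mul, mul_assoc]
      _ = e := by rw [hee]; simp
  rw [he5] at h1
  obtain ⟨k, hk⟩ := mem_zpowers_iff.mp h1
  have hzz : z * z = 1 := CentU.zz h
  rcases Int.even_or_odd' k with ⟨j, rfl | rfl⟩
  · apply ne_one_of_orderOf ((orderOf_of_isConj he).trans h.hz)
    rw [← hk, zpow_mul, zpow_two, hzz, one_zpow]
  · apply hne
    rw [← hk, zpow_add, zpow_mul, zpow_two, hzz, one_zpow, one_mul, zpow_one]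

omit [Finite G] in
/-- the number of `u`-type involutions of `C(z)` commuting with `e` -/
theorem card_conj_e (g : G) (hg : g * z * g⁻¹ = z) (e : G) :
    Nat.card {t : G // (IsConj u t ∧ t * z = z * t) ∧ t * e = e * t} =
      Nat.card {t : G // (IsConj u t ∧ t * z = z * t) ∧ t * (g * e * g⁻¹) = (g * e * g⁻¹) * t} := by
  apply card_conj g
  intro x
  have h1 := isConj_conj (a := u) (x := x) g
  have h2 := comm_conj (x := x) (y := z) g
  have h3 := comm_conj (x := x) (y := e) g
  rw [hg] at h2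
  rw [← h1, ← h2, ← h3]

omit [Finite G] in
theorem card_mul_e (e : G) :
    Nat.card {t : G // (IsConj u t ∧ t * z = z * t) ∧ t * e = e * t} =
      Nat.card {t : G // (IsConj u t ∧ t * z = z * t) ∧ t * (z * e) = (z * e) * t} := by
  refine Nat.card_congr (Equiv.subtypeEquivRight fun t => ?_)
  constructor
  · rintro ⟨h1, h2⟩
    refine ⟨h1, ?_⟩
    rw [← mul_assoc, h1.2, mul_assoc, h2, ← mul_assoc]
  · rintro ⟨h1, h2⟩
    refine ⟨h1, ?_⟩
    rw [← mul_assoc, h1.2, mul_assoc, mul_assoc] at h2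
    exact mul_left_cancel h2

theorem card_ten (h : Fus z u) : Nat.card {x : G // (IsConj z x ∧ x * z = z * x) ∧ ¬ x = z} = 10 := by
  have h1 := card_split (fun x : G => IsConj z x ∧ x * z = z * x) (fun x => x = z)
  rw [h.card11] at h1
  have h2 : Nat.card {x : G // (IsConj z x ∧ x * z = z * x) ∧ x = z} = 1 := by
    rw [Nat.card_eq_one_iff_unique]
    refine ⟨⟨fun a b => Subtype.ext (a.2.2.trans b.2.2.symm)⟩, ⟨⟨z, ⟨IsConj.refl z, rfl⟩, rfl⟩⟩⟩
  rw [h2] at h1
  omega

/-- every `z`-type `x ≠ z` of `C(z)` sees the same number of `u`-types -/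
theorem card_const (h : Fus z u) {e : G} (he : IsConj z e) (hez : e * z = z * e) (hne : e ≠ z) {x : G}
    (hx : IsConj z x) (hxz : x * z = z * x) (hxne : x ≠ z) :
    Nat.card {t : G // (IsConj u t ∧ t * z = z * t) ∧ t * x = x * t} =
      Nat.card {t : G // (IsConj u t ∧ t * z = z * t) ∧ t * e = e * t} := by
  classical
  have hzz : z * z = 1 := CentU.zz h
  have hee : e * e = 1 := mul_self_of_orderOf ((orderOf_of_isConj he).trans h.hz)
  -- an element of order 5
  have : Fact (Nat.Prime 5) := ⟨Nat.prime_five⟩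
  obtain ⟨w0, hw0⟩ := exists_prime_orderOf_dvd_card' (G := centralizer ({z} : Set G)) 5
    (by rw [h.cardC]; norm_num)
  have hw : orderOf (w0 : G) = 5 := by rw [orderOf_coe]; exact hw0
  have hwz : (w0 : G) * z = z * w0 := mem_C.mp w0.2
  generalize (w0 : G) = w at hw hwz
  have hw5 : w ^ 5 = 1 := by rw [← hw]; exact pow_orderOf_eq_one w
  have hwm : ∀ m : ℤ, w ^ m * z = z * w ^ m := fun m => ((show Commute w z from hwz).zpow_left m).eq
  have hwmz : ∀ m : ℤ, w ^ m * z * (w ^ m)⁻¹ = z := by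
    intro m; rw [hwm]; group
  -- `w ^ m` conjugates of `e`
  have hA : ∀ m : ℤ, w ^ m * e * (w ^ m)⁻¹ = e → (5 : ℤ) ∣ m := by
    intro m hm
    exact dvd_of_comm h hw hwz he hez hne (mul_inv_eq_iff_eq_mul.mp hm)
  have hB : ∀ m : ℤ, w ^ m * e * (w ^ m)⁻¹ ≠ z * e := by
    intro m hm
    have h1 : w ^ (2 * m) * e * (w ^ (2 * m))⁻¹ = e := by
      have : w ^ (2 * m) = w ^ m * w ^ m := by rw [two_mul, zpow_add]
      calc w ^ (2 * m) * e * (w ^ (2 * m))⁻¹ = w ^ m * (w ^ m * e * (w ^ m)⁻¹) * (w ^ m)⁻¹ := by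
            rw [this]; group
        _ = w ^ m * (z * e) * (w ^ m)⁻¹ := by rw [hm]
        _ = (w ^ m * z * (w ^ m)⁻¹) * (w ^ m * e * (w ^ m)⁻¹) := by group
        _ = (z * z) * e := by rw [hwmz, hm, mul_assoc]
        _ = e := by rw [hzz, one_mul]
    have h2 := hA _ h1
    have h3 : (5 : ℤ) ∣ m := by omega
    obtain ⟨k, rfl⟩ := h3
    have h4 : w ^ (5 * k) = 1 := by
      rw [zpow_mul]
      norm_cast
      rw [hw5, one_zpow]
    rw [h4] at hm
    have h5 : z * e = e := by rw [← hm]; group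
    exact ne_one_of_orderOf h.hz (mul_eq_right.mp h5)
  have hprop : ∀ (m : ℤ) (j : Bool), let y := (if j then z else 1) * (w ^ m * e * (w ^ m)⁻¹)
      (IsConj z y ∧ y * z = z * y) ∧ ¬ y = z := by
    intro m j
    have h1 : IsConj z (w ^ m * e * (w ^ m)⁻¹) := (isConj_conj (w ^ m)).mp he
    have h2 : (w ^ m * e * (w ^ m)⁻¹) * z = z * (w ^ m * e * (w ^ m)⁻¹) := by
      have := (comm_conj (x := e) (y := z) (w ^ m)).mp hez
      rwa [hwmz] at this
    have h3 : w ^ m * e * (w ^ m)⁻¹ ≠ z := by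
      intro h3
      apply hne
      have : e = (w ^ m)⁻¹ * z * w ^ m := by rw [← h3]; group
      rw [this, mul_assoc, ← hwm]; group
    cases j
    · dsimp only
      simp only [Bool.false_eq_true, if_false, one_mul]
      exact ⟨⟨h1, h2⟩, h3⟩
    · dsimp only
      simp only [if_true]
      refine ⟨⟨h.mul_z _ _ (IsConj.refl z) h1 h2.symm h3.symm, ?_⟩, ?_⟩
      · rw [mul_assoc, h2, ← mul_assoc]
      · intro h4
        have h5 : w ^ m * e * (w ^ m)⁻¹ = 1 := mul_eq_left.mp h4
        exact ne_one_of_orderOf ((orderOf_of_isConj h1).trans h.hz) h5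
  let φ : Fin 5 × Bool → {x : G // (IsConj z x ∧ x * z = z * x) ∧ ¬ x = z} := fun p =>
    ⟨(if p.2 then z else 1) * (w ^ (p.1.val : ℤ) * e * (w ^ (p.1.val : ℤ))⁻¹), hprop p.1.val p.2⟩
  have hinj : Function.Injective φ := by
    rintro ⟨k, j⟩ ⟨k', j'⟩ hkk
    have h1 : (if j then z else 1) * (w ^ (k.val : ℤ) * e * (w ^ (k.val : ℤ))⁻¹) =
        (if j' then z else 1) * (w ^ (k'.val : ℤ) * e * (w ^ (k'.val : ℤ))⁻¹) := congrArg Subtype.val hkk
    have hk := k.2
    have hk' := k'.2
    have h5 : ∀ a b : ℤ, w ^ a * e * (w ^ a)⁻¹ = w ^ b * e * (w ^ b)⁻¹ → (5 : ℤ) ∣ a - b := by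
      intro a b hab
      apply hA
      calc w ^ (a - b) * e * (w ^ (a - b))⁻¹ = (w ^ b)⁻¹ * (w ^ a * e * (w ^ a)⁻¹) * w ^ b := by
            have : w ^ (a - b) = (w ^ b)⁻¹ * w ^ a := by
              rw [← zpow_neg, ← zpow_add]; congr 1; ring
            rw [this]; group
        _ = e := by rw [hab]; group
    have h6 : ∀ a b : ℤ, w ^ a * e * (w ^ a)⁻¹ ≠ z * (w ^ b * e * (w ^ b)⁻¹) := by
      intro a b hab
      apply hB (a - b)
      calc w ^ (a - b) * e * (w ^ (a - b))⁻¹ = (w ^ b)⁻¹ * (w ^ a * e * (w ^ a)⁻¹) * w ^ b := by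
            have : w ^ (a - b) = (w ^ b)⁻¹ * w ^ a := by
              rw [← zpow_neg, ← zpow_add]; congr 1; ring
            rw [this]; group
        _ = ((w ^ b)⁻¹ * z * w ^ b) * e := by rw [hab]; group
        _ = z * e := by
            rw [mul_assoc (w ^ b)⁻¹, ← hwm b]; group
    have h7 : ∀ a b : ℤ, z * (w ^ a * e * (w ^ a)⁻¹) = z * (w ^ b * e * (w ^ b)⁻¹) → (5 : ℤ) ∣ a - b :=
      fun a b hab => h5 a b (mul_left_cancel hab)
    cases j <;> cases j' <;> simp only [if_true, Bool.false_eq_true, if_false, one_mul] at h1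
    · have := h5 _ _ h1
      rw [Prod.mk.injEq]
      exact ⟨Fin.ext (by omega), rfl⟩
    · exact absurd h1 (h6 _ _)
    · exact absurd h1.symm (h6 _ _)
    · have := h7 _ _ h1
      rw [Prod.mk.injEq]
      exact ⟨Fin.ext (by omega), rfl⟩
  have hbij : Function.Bijective φ := by
    rw [Nat.bijective_iff_injective_and_card]
    refine ⟨hinj, ?_⟩
    rw [card_ten h]
    simp
  obtain ⟨⟨k, j⟩, hkj⟩ := hbij.2 ⟨x, ⟨hx, hxz⟩, hxne⟩
  have hx' : x = (if j then z else 1) * (w ^ (k.val : ℤ) * e * (w ^ (k.val : ℤ))⁻¹) :=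
    (congrArg Subtype.val hkj).symm
  have h8 := card_conj_e (u := u) (z := z) (w ^ (k.val : ℤ)) (hwmz _) e
  rw [h8, hx']
  cases j
  · simp only [Bool.false_eq_true, if_false, one_mul]
  · simp only [if_true]
    exact (card_mul_e _).symm

theorem card24 (h : Fus z u) {e : G} (he : IsConj z e) (hez : e * z = z * e) (hne : e ≠ z) :
    Nat.card {t : G // (IsConj u t ∧ t * z = z * t) ∧ t * e = e * t} = 24 := by
  classical
  have e1 : (Σ t : {t : G // IsConj u t ∧ t * z = z * t},
        {x : G // ((IsConj z x ∧ x * z = z * x) ∧ ¬ x = z) ∧ x * t.1 = t.1 * x}) ≃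
      Σ x : {x : G // (IsConj z x ∧ x * z = z * x) ∧ ¬ x = z},
        {t : G // (IsConj u t ∧ t * z = z * t) ∧ t * x.1 = x.1 * t} :=
    { toFun := fun p => ⟨⟨p.2.1, p.2.2.1⟩, ⟨p.1.1, p.1.2, p.2.2.2.symm⟩⟩
      invFun := fun p => ⟨⟨p.2.1, p.2.2.1⟩, ⟨p.1.1, p.1.2, p.2.2.2.symm⟩⟩
      left_inv := fun p => rfl
      right_inv := fun q => rfl }
  have h1 := Nat.card_congr e1
  rw [card_sigma_const 2, h.card120, card_sigma_const _ (fun x => card_const h he hez hne x.2.1.1 x.2.1.2 x.2.2),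
    card_ten h] at h1
  · omega
  · rintro ⟨y, hy, hyz⟩
    have h2 := card_comm_three h hy hyz
    have h3 := card_split (fun x : G => (IsConj z x ∧ x * z = z * x) ∧ x * y = y * x) (fun x => x = z)
    rw [h2] at h3
    have h4 : Nat.card {x : G // ((IsConj z x ∧ x * z = z * x) ∧ x * y = y * x) ∧ x = z} = 1 := by
      rw [Nat.card_eq_one_iff_unique]
      refine ⟨⟨fun a b => Subtype.ext (a.2.2.trans b.2.2.symm)⟩, ⟨⟨z, ⟨⟨IsConj.refl z, rfl⟩, hyz.symm⟩, rfl⟩⟩⟩
    rw [h4] at h3
    have h5 : Nat.card {x : G // ((IsConj z x ∧ x * z = z * x) ∧ ¬ x = z) ∧ x * y = y * x} =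
        Nat.card {x : G // ((IsConj z x ∧ x * z = z * x) ∧ x * y = y * x) ∧ ¬ x = z} :=
      Nat.card_congr (Equiv.subtypeEquivRight fun t => by tauto)
    change Nat.card {x : G // ((IsConj z x ∧ x * z = z * x) ∧ ¬ x = z) ∧ x * y = y * x} = 2
    omega

/-- The form used with `CentU.Full`. -/
theorem card24E {f : G} {U V H0 : Subgroup G} (h : Fus z u) (F : Full z u f U V H0) :
    ∀ e ∈ U, e ≠ 1 → e ≠ z → Nat.card {t : G // IsConj u t ∧ t * z = z * t ∧ t * e = e * t} = 24 := by
  intro e he he1 hez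
  rcases (F.memU e).mp he with h0 | ⟨h1, h2, -⟩
  · exact absurd h0 he1
  · rw [← card24 h h1 h2 hez]
    exact Nat.card_congr (Equiv.subtypeEquivRight fun t => by tauto)

end Cfsg.Agent.J2Type.Third
end

-- part: J2Type/Ident
section
/-!
Identification of a group of Hall–Janko type with the icosian group `J2`.
-/

set_option autoImplicit false

namespace Cfsg.Agent.J2Type.Ident

open Subgroup Cfsg.Agent.J2Type.Base Cfsg.Agent.J2Type.CentU Cfsg.Agent.J2Type.Pres

/-- The order and six elements satisfying the relations. -/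
theorem order_and_rels {G : Type*} [Group G] [Finite G] {z u : G} (h : Fus z u) :
    Nat.card G = 604800 ∧ ∃ v x a y l : G, Rels v x a z y l := by
  obtain ⟨f, U, V, H0, F⟩ := CentU.main h
  obtain ⟨hG, -, h60, -⟩ := Order.order_of_fus h F.str
  exact ⟨hG, GRels.exists_rels h F h60 hG (Cfsg.Agent.J2Type.Third.exists_d' h F h60)
    (Cfsg.Agent.J2Type.Third.card24E h F)⟩

/-- A group with the fusion data of the Hall–Janko group is isomorphic to the Hall–Janko group on 100 points. -/
theorem isoHundred_of_fus {G : Type*} [Group G] [Finite G] {z u : G} (h : Fus z u) :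
    Nonempty (G ≃* Cfsg.Agent.SporadicA.J2Hundred.G) := by
  obtain ⟨hG, v, x, a, y, l, hr⟩ := order_and_rels h
  exact Cfsg.Agent.J2.HundredGens.iso_hundred hG hr (CentU.z_ne h)

/-- A group with the fusion data of the Hall–Janko group is isomorphic to `J2`. -/
theorem isoJ2_of_fus {G : Type*} [Group G] [Finite G] {z u : G} (h : Fus z u) : Cfsg.Spor.IsoJ2 G := by
  obtain ⟨hG, v, x, a, y, l, hr⟩ := order_and_rels h
  exact Cfsg.Agent.J2.HundredGens.iso_J2 Cfsg.Agent.S1619.result.2.2.2 hG hr (CentU.z_ne h)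

end Cfsg.Agent.J2Type.Ident
end
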